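import Groth.Agent.H58Jac.Fibre
import Groth.Agent.H58AE.Peel
import Groth.Agent.Lib.GrpQ.MonoClosed
import Groth.Agent.H3.PicCalc
import Groth.Agent.H58AE.PointClass

/-!
# Classes of degree zero are differences of points
-/

set_option autoImplicit false
set_option linter.style.haveILetI false
set_option backward.isDefEq.respectTransparency false
set_option backward.isDefEq.respectTransparency.types false
universe u

open CategoryTheory CategoryTheory.Limits MonoidalCategory CartesianMonoidalCategory AlgebraicGeometry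
open IsLocalRing (closedPoint)
open Groth.Agent.H3

noncomputable section

namespace Groth.Agent.H58Jac

open Groth.Agent Groth.Agent.Lib

local instance (Y : Scheme.{u}) : PicGrp.Law Y := Groth.Agent.Lib.TensorMod.Invertible.law Y

/-- An effective Cartier ideal not containing the image of the generic point pulls back well. -/
theorem nonempty_pullback_idealMod_of_not_mem {X Y : Scheme.{u}} [IsIntegral X] (g : X ⟶ Y)
    {J : Y.IdealSheafData} (hJ : BlowUp.IsEffCartierIdeal J)
    (hgen : genericPoint X ∉ ((J.comap g).support : Set X)) :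
    Nonempty ((Scheme.Modules.pullback g).obj (ClSub.idealMod J) ≅ ClSub.idealMod (J.comap g)) := by
  refine ModelFibre.IdealPull.nonempty_pullback_idealMod g hJ fun U s _ hs z hz => ?_
  refine mem_nonZeroDivisors_of_ne_zero fun h0 => hgen ?_
  have h1 : g.app U.1 s = 0 := by
    refine germ_injective_of_isIntegral X z hz ?_
    rw [map_zero]; exact h0
  obtain ⟨V, hV, hzV, hVU⟩ := exists_isAffineOpen_mem_and_subset (U := g ⁻¹ᵁ U.1) (x := z) hz
  have hJ' : (J.comap g).ideal ⟨V, hV⟩ = ⊥ := by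
    rw [Lib.Ideal.Comap.ideal_comap _ _ U ⟨V, hV⟩ hVU, hs, _root_.Ideal.map_span, Set.image_singleton,
      _root_.Ideal.span_singleton_eq_bot, Scheme.Hom.appLE, CommRingCat.hom_comp, RingHom.comp_apply,
      h1, map_zero]
  have hgV : genericPoint X ∈ (V : Set X) :=
    ((genericPoint_spec X).mem_open_set_iff V.2).2 ⟨z, trivial, hzV⟩
  have hsupp := Scheme.IdealSheafData.coe_support_inter (J.comap g) ⟨V, hV⟩
  rw [hJ'] at hsupp
  exact (hsupp.ge ⟨by simp [Scheme.zeroLocus], hgV⟩).1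

variable {C S : Scheme.{u}} (f : C ⟶ S) [IsProper f] [Smooth f] [GeometricallyConnected f]
  (hdim : ∀ s : S, topologicalKrullDim ↥(f.fiber s) = 1)

omit [IsProper f] [Smooth f] [GeometricallyConnected f] in
theorem whisker_left {T T' : Over S} (g : T' ⟶ T) :
    (Over.mk f ◁ g).left = PicF.XTmap f g := by
  refine pullback.hom_ext ?_ ?_
  · exact (congrArg Over.Hom.left (whiskerLeft_fst (Over.mk f) g)).trans
      (HilbD.Basic.XTmap_fst f g).symm
  · exact (congrArg Over.Hom.left (whiskerLeft_snd (Over.mk f) g)).trans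
      (HilbD.Basic.XTmap_snd f g).symm

/-- The class of the diagonal. -/
def dia : PicLoc.PicSet (Over.mk f ⊗ Over.mk f).left :=
  PicGrp.cls (ClSub.idealMod (pullback.diagonal f).ker : (PicF.XT f (Over.mk f)).Modules)
    (ClSub.Cartier.isInvertible_idealMod
      (H34.AbelMono.isEffCartier_graph f hdim (Over.mk f) (𝟙 C) (Category.id_comp _)))

/-- The tower of pairs of points. -/
def Tw : ℕ → Over S
  | 0 => 𝟙_ (Over S)
  | n + 1 => Tw n ⊗ (Over.mk f ⊗ Over.mk f)

/-- The differences of points. -/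
def aT : ∀ n, PicLoc.PicSet (Over.mk f ⊗ Tw f n).left
  | 0 => 1
  | n + 1 => PicCalc.ph (Over.mk f ◁ fst (Tw f n) (Over.mk f ⊗ Over.mk f)) (aT n) *
      PicCalc.ph (Over.mk f ◁ (snd (Tw f n) _ ≫ fst (Over.mk f) (Over.mk f))) (dia f hdim) *
      (PicCalc.ph (Over.mk f ◁ (snd (Tw f n) _ ≫ snd (Over.mk f) (Over.mk f))) (dia f hdim))⁻¹

/-- Being a member of the family. -/
def Reach (W : Over S) (n : ℕ) (c : PicLoc.PicSet (Over.mk f ⊗ W).left) : Prop :=
  ∃ t : W ⟶ Tw f n, PicCalc.ph (Over.mk f ◁ t) (aT f hdim n) = c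

theorem Reach.zero (W : Over S) : Reach f hdim W 0 1 := ⟨toUnit W, map_one _⟩

theorem ph_whisker {A B D : Over S} (g : A ⟶ B) (h : B ⟶ D) (c : PicLoc.PicSet (Over.mk f ⊗ D).left) :
    PicCalc.ph (Over.mk f ◁ g) (PicCalc.ph (Over.mk f ◁ h) c) = PicCalc.ph (Over.mk f ◁ (g ≫ h)) c := by
  rw [← PicCalc.ph_comp, ← whiskerLeft_comp]

theorem ph_aT_succ {W : Over S} {n : ℕ} (t : W ⟶ Tw f n ⊗ (Over.mk f ⊗ Over.mk f)) :
    PicCalc.ph (Over.mk f ◁ t) (aT f hdim (n + 1) : PicLoc.PicSet (Over.mk f ⊗ (Tw f n ⊗ (Over.mk f ⊗ Over.mk f))).left) =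
      PicCalc.ph (Over.mk f ◁ (t ≫ fst _ _)) (aT f hdim n) *
        PicCalc.ph (Over.mk f ◁ (t ≫ snd _ _ ≫ fst _ _)) (dia f hdim) *
        (PicCalc.ph (Over.mk f ◁ (t ≫ snd _ _ ≫ snd _ _)) (dia f hdim))⁻¹ := by
  show PicCalc.ph (Over.mk f ◁ t) (_ * _ * _) = _
  rw [map_mul, map_mul, map_inv, ph_whisker, ph_whisker, ph_whisker]

theorem Reach.succ {W : Over S} {n : ℕ} {c : PicLoc.PicSet (Over.mk f ⊗ W).left}
    (h : Reach f hdim W n c) (p q : W ⟶ Over.mk f) :
    Reach f hdim W (n + 1) (c * PicCalc.ph (Over.mk f ◁ p) (dia f hdim) *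
      (PicCalc.ph (Over.mk f ◁ q) (dia f hdim))⁻¹) := by
  obtain ⟨t, rfl⟩ := h
  refine ⟨lift t (lift p q), ?_⟩
  refine (ph_aT_succ f hdim (lift t (lift p q))).trans ?_
  rw [lift_fst, lift_snd_assoc, lift_snd_assoc, lift_fst, lift_snd]

section Field

variable {Ω : Type u} [Field Ω] [IsAlgClosed Ω] (σ₀ : Spec (CommRingCat.of Ω) ⟶ S)

local instance overPt : (Over.mk f ⊗ Over.mk σ₀).left.Over (Spec (CommRingCat.of Ω)) :=
  ⟨PicF.XTproj f (Over.mk σ₀)⟩

omit [IsProper f] [Smooth f] [GeometricallyConnected f] in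
theorem sqPt : IsPullback (𝟙 (PicF.XT f (Over.mk σ₀))) (PicF.XTproj f (Over.mk σ₀))
    (PicF.XTproj f (Over.mk σ₀)) (𝟙 (Spec (CommRingCat.of Ω))) :=
  IsPullback.id_horiz _

include hdim in
theorem isCurvePt : IsCurve (PicF.XTproj f (Over.mk σ₀)) := isCurve f hdim (sqPt f σ₀)

/-- Having a given degree. -/
def HasDeg (c : PicLoc.PicSet (Over.mk f ⊗ Over.mk σ₀).left) (m : ℤ) : Prop :=
  ∀ (L : (Over.mk f ⊗ Over.mk σ₀).left.Modules) (hL : PicF.IsInvertible L),
    PicGrp.cls L hL = c → Curv2.deg Ω _ L 1 = m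

include hdim in
theorem inst_proper : IsProper ((Over.mk f ⊗ Over.mk σ₀).left ↘ Spec (CommRingCat.of Ω)) :=
  (isCurvePt f hdim σ₀).proper

include hdim in
theorem HasDeg.mul {c d : PicLoc.PicSet (Over.mk f ⊗ Over.mk σ₀).left} {m n : ℤ}
    (hc : HasDeg f σ₀ c m) (hd : HasDeg f σ₀ d n) : HasDeg f σ₀ (c * d) (m + n) := by
  haveI := inst_proper f hdim σ₀
  haveI : IsIntegral (Over.mk f ⊗ Over.mk σ₀).left := (isCurvePt f hdim σ₀).integral
  haveI : IsIntegral (PicF.XT f (Over.mk σ₀)) := (isCurvePt f hdim σ₀).integral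
  obtain ⟨A, hA, rfl⟩ := PicGrp.exists_eq_cls c
  obtain ⟨B, hB, rfl⟩ := PicGrp.exists_eq_cls d
  intro L hL h
  have e := congrArg Subtype.val h
  rw [PicGrp.cls_mul_cls_val, PicGrp.cls_val, PicGrp.cl_eq_cl_iff] at e
  rw [Curves.Euler.deg_eq_of_iso e.some 1,
    Curves.Degree.deg_tensor (X := (Over.mk f ⊗ Over.mk σ₀).left) (isCurvePt f hdim σ₀).dim.le hA hB, hc A hA rfl, hd B hB rfl]

include hdim in
theorem HasDeg.one : HasDeg f σ₀ 1 0 := by
  haveI := inst_proper f hdim σ₀
  intro L hL h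
  rw [← PicGrp.cls_structureModule_eq_one] at h
  rw [Curves.Euler.deg_eq_of_iso ((PicGrp.cls_eq_cls_iff _ _).1 h).some 1,
    Curves.Degree.deg_structureModule]

include hdim in
theorem HasDeg.inv {c : PicLoc.PicSet (Over.mk f ⊗ Over.mk σ₀).left} {m : ℤ}
    (hc : HasDeg f σ₀ c m) : HasDeg f σ₀ c⁻¹ (-m) := by
  intro L hL h
  obtain ⟨O, hO, hO1⟩ := PicGrp.exists_eq_cls (1 : PicLoc.PicSet (Over.mk f ⊗ Over.mk σ₀).left)
  have h1 := (HasDeg.one f hdim σ₀) O hO hO1.symm
  have h2 := (HasDeg.mul f hdim σ₀ hc (d := c⁻¹) (n := Curv2.deg Ω _ L 1)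
    (fun M hM e => by
      rw [← h, PicGrp.cls_eq_cls_iff] at e
      exact Curves.Euler.deg_eq_of_iso e.some 1)) O hO (hO1.symm.trans (mul_inv_cancel c).symm)
  linarith

include hdim in
/-- A point gives a class of degree minus one, the ideal of a closed point. -/
theorem point_class (p : Over.mk σ₀ ⟶ Over.mk f) :
    ∃ (hc : IsClosed ({(lift p (𝟙 (Over.mk σ₀))).left (closedPoint Ω)} : Set (Over.mk f ⊗ Over.mk σ₀).left))
      (hI : PicF.IsInvertible (ClSub.idealMod (Curves.PointIdeal.ptI hc))),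
      PicCalc.ph (Over.mk f ◁ p) (dia f hdim) = PicGrp.cls _ hI ∧
        HasDeg f σ₀ (PicGrp.cls _ hI) (-1) := by
  let Z : Scheme.{u} := (Over.mk f ⊗ Over.mk σ₀).left
  have hC := isCurvePt f hdim σ₀
  haveI := inst_proper f hdim σ₀
  haveI : IsIntegral Z := hC.integral
  haveI : IsIntegral (PicF.XT f (Over.mk σ₀)) := hC.integral
  haveI := Curves.GlobalSections.noetherianSpace_of_proper Ω Z
  let x : Spec (CommRingCat.of Ω) ⟶ Z := (lift p (𝟙 (Over.mk σ₀))).left
  have hx : x ≫ (Z ↘ Spec (CommRingCat.of Ω)) = 𝟙 _ :=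
    congrArg Over.Hom.left (lift_snd p (𝟙 (Over.mk σ₀)))
  haveI : IsClosedImmersion x := by
    haveI : IsClosedImmersion (x ≫ (Z ↘ Spec (CommRingCat.of Ω))) := by rw [hx]; infer_instance
    exact IsClosedImmersion.of_comp x (Z ↘ Spec (CommRingCat.of Ω))
  have hrange : Set.range x = {x (closedPoint Ω)} := Set.Subset.antisymm
    (by rintro _ ⟨w, rfl⟩; rw [Subsingleton.elim (α := PrimeSpectrum Ω) w (closedPoint Ω)]; rfl)
    (by rintro _ rfl; exact ⟨_, rfl⟩)
  have hcl : IsClosed ({x (closedPoint Ω)} : Set Z) := hrange ▸ x.isClosedEmbedding.isClosed_range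
  have hw : (Over.mk f ◁ p).left = PicF.XTmap f p := whisker_left f p
  have sq : IsPullback p.left x (pullback.diagonal f) (PicF.XTmap f p) := by
    refine IsPullback.of_bot ?_ ?_ (HilbD.Basic.isPullback_XTmap f p)
    · rw [show x ≫ PicF.XTproj f (Over.mk σ₀) = 𝟙 _ from hx,
        show pullback.diagonal f ≫ PicF.XTproj f (Over.mk f) = 𝟙 C from pullback.diagonal_snd f]
      exact IsPullback.id_vert _
    · refine (pullback.hom_ext ?_ ?_).symm
      · exact (Category.assoc _ _ _).trans ((congrArg (x ≫ ·) (HilbD.Basic.XTmap_fst f p)).trans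
          ((congrArg Over.Hom.left (lift_fst p (𝟙 (Over.mk σ₀)))).trans
            ((Category.comp_id p.left).symm.trans ((congrArg (p.left ≫ ·) (pullback.diagonal_fst f).symm).trans
              (Category.assoc _ _ _).symm))))
      · exact (Category.assoc _ _ _).trans ((congrArg (x ≫ ·) (HilbD.Basic.XTmap_snd f p)).trans
          ((Category.assoc _ _ _).symm.trans ((congrArg (· ≫ p.left) hx).trans ((Category.id_comp _).trans
            ((Category.comp_id p.left).symm.trans ((congrArg (p.left ≫ ·) (pullback.diagonal_snd f).symm).trans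
              (Category.assoc _ _ _).symm))))))
  have hker : (pullback.diagonal f).ker.comap (PicF.XTmap f p) = x.ker := by
    rw [← Scheme.IdealSheafData.ker_fst_of_isClosedImmersion, ← sq.flip.isoPullback_inv_fst,
      Scheme.Hom.ker_comp_of_isIso]
  have hxI : x.ker = Curves.PointIdeal.ptI hcl := H58AE.ker_eq_ptI (C := Z) x hx hcl
  have hgen : genericPoint Z ∉ ({x (closedPoint Ω)} : Set Z) := fun h => by
    have hu : ({x (closedPoint Ω)} : Set Z) = Set.univ :=
      Set.eq_univ_of_univ_subset ((genericPoint_spec Z).ge.trans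
        (closure_minimal (Set.singleton_subset_iff.2 h) hcl))
    haveI : Subsingleton Z := ⟨fun a b => (Set.mem_singleton_iff.1 (hu.ge (Set.mem_univ a))).trans
      (Set.mem_singleton_iff.1 (hu.ge (Set.mem_univ b))).symm⟩
    have h0 := topologicalKrullDim_zero_of_discreteTopology Z
    have h1 : topologicalKrullDim Z = 1 := hC.dim
    rw [h1] at h0
    exact one_ne_zero (le_antisymm h0 zero_le_one)
  have hJ := H34.AbelMono.isEffCartier_graph f hdim (Over.mk f) (𝟙 C) (Category.id_comp _)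
  obtain ⟨i⟩ : Nonempty ((Scheme.Modules.pullback (PicF.XTmap f p)).obj
      (ClSub.idealMod (pullback.diagonal f).ker) ≅ ClSub.idealMod (Curves.PointIdeal.ptI hcl)) := by
    rw [← hxI, ← hker]
    exact nonempty_pullback_idealMod_of_not_mem (PicF.XTmap f p) hJ (by
      rw [hker, hxI, Curves.PointIdeal.support_ptI]; exact hgen)
  have hI : PicF.IsInvertible (ClSub.idealMod (Curves.PointIdeal.ptI hcl)) :=
    TensorMod.Invertible.isInvertible_of_iso i (PicLoc.isInvertible_pullback _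
      (ClSub.Cartier.isInvertible_idealMod hJ))
  refine ⟨hcl, hI, ?_, fun L hL h => ?_⟩
  · refine (PicCalc.iso_iff (PicCalc.cl_pullback (Over.mk f ◁ p)
      (L := (ClSub.idealMod (pullback.diagonal f).ker : (PicF.XT f (Over.mk f)).Modules))
      (a := dia f hdim) rfl) (b := PicGrp.cls _ hI) rfl).1 ⟨?_⟩
    exact (Scheme.Modules.pullbackCongr hw).app _ ≪≫ i
  · have hi := Curves.Euler.deg_eq_of_iso (k := Ω) ((PicGrp.cls_eq_cls_iff _ _).1 h).some 1
    have hdi := Curves.Degree.deg_idealMod (k := Ω) (X := (Over.mk f ⊗ Over.mk σ₀).left) hC.dim.le hI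
      (by rw [Curves.PointIdeal.support_ptI]; exact hgen)
    have hq := Curves.PointIdeal.hdim_quot_point_algClosed (k := Ω) (X := (Over.mk f ⊗ Over.mk σ₀).left)
      hcl hC.dim.le
    refine hi.trans (hdi.trans ?_)
    rw [hq]
    rfl

include hdim in
theorem hasDeg_dia (p : Over.mk σ₀ ⟶ Over.mk f) :
    HasDeg f σ₀ (PicCalc.ph (Over.mk f ◁ p) (dia f hdim)) (-1) := by
  obtain ⟨_, _, e, h⟩ := point_class f hdim σ₀ p
  exact e ▸ h

include hdim in
theorem hasDeg_aT : ∀ (n : ℕ) (t : Over.mk σ₀ ⟶ Tw f n),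
    HasDeg f σ₀ (PicCalc.ph (Over.mk f ◁ t) (aT f hdim n)) 0 := by
  intro n
  induction n with
  | zero => intro t; rw [aT, map_one]; exact HasDeg.one f hdim σ₀
  | succ n ih =>
    intro t
    refine Eq.subst (motive := fun c => HasDeg f σ₀ c 0) (ph_aT_succ f hdim t).symm ?_
    have := HasDeg.mul f hdim σ₀ (HasDeg.mul f hdim σ₀ (ih (t ≫ fst _ _))
      (hasDeg_dia f hdim σ₀ (t ≫ snd _ _ ≫ fst _ _)))
      (HasDeg.inv f hdim σ₀ (hasDeg_dia f hdim σ₀ (t ≫ snd _ _ ≫ snd _ _)))
    simpa using this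

omit [IsAlgClosed Ω] in
include hdim in
theorem genus_eq : Curv2.genus Ω (Over.mk f ⊗ Over.mk σ₀).left =
    CohIII.fiberRank f (Coh.structureModule C) 1 (σ₀ (closedPoint Ω)) := by
  have hO := PicLoc.isInvertible_structureModule C
  have hO' := TensorMod.LocFree.of_rank (TensorMod.LocFree.of_isInvertible hO)
  haveI : (Coh.structureModule C).IsQuasicoherent := TensorMod.QCohInv.isQCoh_of_isInvertible hO
  have h := ExchangeFP29.FieldPoint.finrank_HH_eq f (Coh.structureModule C)
    (TensorMod.FPConv.isFP_of_isFinLocFree hO')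
    (_root_.ZarCoh.Exchange.NearFibre.isFlatOver_of_isFinLocFree _ hO')
    (PicF.XTproj f (Over.mk σ₀)) σ₀ (pullback.fst f σ₀) (IsPullback.of_hasPullback f σ₀) 1
  rw [← h]
  exact (Curves.Euler.hdim_eq_of_iso (k := Ω) (X := (Over.mk f ⊗ Over.mk σ₀).left)
    (PicLoc.pullbackStructureIso (pullback.fst f σ₀)) 1).symm

include hdim in
/-- Every class of degree zero is a difference of `g` points and `g` points. -/
theorem reach_of_deg_eq_zero {L : (Over.mk f ⊗ Over.mk σ₀).left.Modules} (hL : PicF.IsInvertible L)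
    (h : Curv2.deg Ω _ L 1 = 0) :
    Reach f hdim (Over.mk σ₀) (CohIII.fiberRank f (Coh.structureModule C) 1 (σ₀ (closedPoint Ω)))
      (PicGrp.cls L hL) := by
  let Z : Scheme.{u} := (Over.mk f ⊗ Over.mk σ₀).left
  have hC := isCurvePt f hdim σ₀
  haveI := inst_proper f hdim σ₀
  haveI : IsIntegral Z := hC.integral
  haveI : IsIntegral (PicF.XT f (Over.mk σ₀)) := hC.integral
  haveI : Smooth (Z ↘ Spec (CommRingCat.of Ω)) := hC.smooth
  haveI : GeometricallyConnected (Z ↘ Spec (CommRingCat.of Ω)) := hC.conn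
  haveI := Curves.GlobalSections.noetherianSpace_of_proper Ω Z
  have hd1 : topologicalKrullDim Z ≤ 1 := hC.dim.le
  -- closed points come from points
  have hpt : ∀ x : Z, IsClosed ({x} : Set Z) → ∃ p : Over.mk σ₀ ⟶ Over.mk f,
      (lift p (𝟙 (Over.mk σ₀))).left (closedPoint Ω) = x := by
    intro x hx
    haveI : LocallyOfFiniteType (Over.mk (Z ↘ Spec (CommRingCat.of Ω))).hom :=
      inferInstanceAs (LocallyOfFiniteType (Z ↘ Spec (CommRingCat.of Ω)))
    obtain ⟨s, hs⟩ := GrpQ.MonoClosed.exists_ptOf (X := Over.mk (Z ↘ Spec (CommRingCat.of Ω)))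
      (s := ({x} : Set Z)) hx.isLocallyClosed (Set.singleton_nonempty x)
    let y : Spec (CommRingCat.of Ω) ⟶ Z := s.left
    have hy : y ≫ pullback.snd f σ₀ = 𝟙 _ := Over.w s
    let p : Over.mk σ₀ ⟶ Over.mk f := Over.homMk (y ≫ pullback.fst f σ₀) (by
      show (y ≫ pullback.fst f σ₀) ≫ f = σ₀
      rw [Category.assoc, pullback.condition, ← Category.assoc, hy, Category.id_comp])
    refine ⟨p, ?_⟩
    have e : (lift p (𝟙 (Over.mk σ₀))).left = y := by
      refine pullback.hom_ext ?_ ?_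
      · exact congrArg Over.Hom.left (lift_fst p (𝟙 (Over.mk σ₀)))
      · exact (congrArg Over.Hom.left (lift_snd p (𝟙 (Over.mk σ₀)))).trans hy.symm
    rw [e]
    exact hs
  haveI : Nonempty Z := inferInstance
  obtain ⟨x₀, -, hx₀⟩ := IsClosed.exists_closed_singleton (S := (Set.univ : Set Z)) isClosed_univ
    Set.univ_nonempty
  obtain ⟨p₀, -⟩ := hpt x₀ hx₀
  let P : PicLoc.PicSet Z := PicCalc.ph (Over.mk f ◁ p₀) (dia f hdim)
  have hP := hasDeg_dia f hdim σ₀ p₀
  have hPn : ∀ m : ℕ, HasDeg f σ₀ (P ^ m) (-(m : ℤ)) := by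
    intro m
    induction m with
    | zero => simpa using HasDeg.one f hdim σ₀
    | succ m ih =>
      rw [pow_succ]
      convert HasDeg.mul f hdim σ₀ ih hP using 1
      push_cast; ring
  have key : ∀ (n : ℕ) (M : Z.Modules) (hM : PicF.IsInvertible M), Curv2.deg Ω Z M 1 = n →
      Nontrivial (Coh.HH Z M 0) → Reach f hdim (Over.mk σ₀) n (PicGrp.cls M hM * P ^ n) := by
    intro n
    induction n with
    | zero =>
      intro M hM hMd hs
      obtain ⟨s, hs⟩ := Curves.Positivity.exists_section_of_nontrivial hs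
      haveI := Curves.Positivity.isIso_of_deg_eq (k := Ω) hd1 (PicLoc.isInvertible_structureModule Z)
        hM (Curves.Degree.isGood_structureModule hd1) (Curves.Degree.isGood hd1 hM) hs
        (by rw [Curves.Degree.deg_structureModule, hMd]; rfl)
      rw [pow_zero, _root_.mul_one,
        (PicGrp.cls_eq_cls_iff hM (PicLoc.isInvertible_structureModule Z)).2 ⟨(asIso s).symm⟩,
        PicGrp.cls_structureModule_eq_one]
      exact Reach.zero f hdim _
    | succ n ih =>
      intro M hM hMd hs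
      obtain ⟨x, hx, hsx⟩ := H58AE.exists_point_section hd1 hM hs (by rw [hMd]; omega)
      obtain ⟨p, rfl⟩ := hpt x hx
      obtain ⟨_, hI, hp, hdeg⟩ := point_class f hdim σ₀ p
      have hM' := TensorMod.Invertible.isInvertible_tensorMod hI hM
      have h1 := ih _ hM' (by
        rw [Curves.Degree.deg_tensor hd1 hI hM, hdeg _ hI rfl, hMd]; push_cast; ring) hsx
      let D : PicLoc.PicSet Z := PicCalc.ph (Over.mk f ◁ p) (dia f hdim)
      have e : PicGrp.cls _ hM' = D * PicGrp.cls M hM := by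
        rw [show D = _ from hp]; exact Subtype.ext (PicGrp.cls_mul_cls_val hI hM).symm
      rw [e] at h1
      have h2 := Reach.succ f hdim h1 p₀ p
      rw [pow_succ]
      convert h2 using 1
      show PicGrp.cls M hM * (P ^ n * P) = D * PicGrp.cls M hM * P ^ n * P * D⁻¹
      rw [_root_.mul_assoc _ P]
      exact H58AE.comm_aux _ _ _ _
  let g := CohIII.fiberRank f (Coh.structureModule C) 1 (σ₀ (closedPoint Ω))
  have hg : Curv2.genus Ω Z = g := genus_eq f hdim σ₀
  obtain ⟨M, hM, hMc⟩ := PicGrp.exists_eq_cls (PicGrp.cls L hL * (P ^ g)⁻¹)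
  have hMd : Curv2.deg Ω Z M 1 = g := by
    have h3 := HasDeg.mul f hdim σ₀ (c := PicGrp.cls L hL) (m := 0)
      (fun N hN e => (Curves.Euler.deg_eq_of_iso ((PicGrp.cls_eq_cls_iff _ _).1 e).some 1).trans h)
      (HasDeg.inv f hdim σ₀ (hPn g)) M hM hMc.symm
    rw [show (g : ℤ) = 0 + -(-(g : ℤ)) by ring]
    exact h3
  have h0 : Module.finrank Ω (Coh.HH Z (Coh.structureModule Z) 0) = 1 :=
    CurveFF.finrank_h0_eq_one Ω Z
  have hsec : Nontrivial (Coh.HH Z M 0) := by
    have hrr := Curves.Degree.riemann_roch (k := Ω) hd1 h0 hM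
    haveI := (Curves.Degree.isGood (k := Ω) hd1 hM).fin₀
    refine Module.nontrivial_of_finrank_pos (R := Ω) ?_
    simp only [Curves.Euler.hdim] at hrr
    omega
  have := key g M hM hMd hsec
  rwa [← hMc, inv_mul_cancel_right] at this

end Field

end Groth.Agent.H58Jac
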