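import Groth.Agent.H58Jac.Open
import Groth.Agent.H58Jac.Tower
import Groth.Agent.H4.DualSep.Basic

/-!
# The Jacobian is proper with geometrically connected fibres
-/

set_option autoImplicit false
set_option linter.style.haveILetI false
set_option backward.isDefEq.respectTransparency false
set_option backward.isDefEq.respectTransparency.types false
universe u

open CategoryTheory CategoryTheory.Limits MonoidalCategory CartesianMonoidalCategory AlgebraicGeometry
open IsLocalRing (closedPoint)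
open Groth.Agent.H3

noncomputable section

namespace Groth.Agent.H58Jac

open Groth.Agent Groth.Agent.Lib

local instance (Y : Scheme.{u}) : PicGrp.Law Y := Groth.Agent.Lib.TensorMod.Invertible.law Y

variable {C S : Scheme.{u}} (f : C ⟶ S) [IsProper f] [Smooth f] [GeometricallyConnected f]
  (hdim : ∀ s : S, topologicalKrullDim ↥(f.fiber s) = 1)

theorem tower_props : ∀ n, IsProper (Tw f n).hom ∧ Smooth (Tw f n).hom ∧
    GeometricallyConnected (Tw f n).hom := by
  intro n
  induction n with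
  | zero =>
    refine ⟨inferInstanceAs (IsProper (𝟙 S)), inferInstanceAs (Smooth (𝟙 S)), ⟨?_⟩⟩
    intro K _ y P p₁ p₂ hP
    haveI : IsIso (Tw f 0).hom := inferInstanceAs (IsIso (𝟙 S))
    haveI : IsIso p₂ := hP.isIso_snd_of_isIso
    haveI : Nonempty (Spec (CommRingCat.of K)) := inferInstanceAs (Nonempty (PrimeSpectrum K))
    haveI : Subsingleton (Spec (CommRingCat.of K)) := inferInstanceAs (Subsingleton (PrimeSpectrum K))
    haveI : ConnectedSpace (Spec (CommRingCat.of K)) := ⟨inferInstance⟩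
    exact (Scheme.homeoOfIso (asIso p₂)).connectedSpace_iff.2 inferInstance
  | succ n ih =>
    obtain ⟨h1, h2, h3⟩ := ih
    have hsq : Smooth (pullback.fst f f ≫ f) := inferInstance
    haveI : GeometricallyConnected (pullback.fst f f ≫ f) := GeometricallyConnected.comp _ _
    exact ⟨inferInstanceAs (IsProper (pullback.fst (Tw f n).hom (pullback.fst f f ≫ f) ≫ (Tw f n).hom)),
      inferInstanceAs (Smooth (pullback.fst (Tw f n).hom (pullback.fst f f ≫ f) ≫ (Tw f n).hom)),
      GeometricallyConnected.comp (pullback.fst (Tw f n).hom (pullback.fst f f ≫ f)) (Tw f n).hom⟩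

/-- The module class of the differences of points. -/
def cT (n : ℕ) : PicF.Cl (PicF.XT f (Tw f n)) := (aT f hdim n).1

include hdim in
theorem isPicZeroCl_cT (n : ℕ) : AbDual.IsPicZeroCl f (Tw f n) (cT f hdim n) := by
  obtain ⟨L, hL, e⟩ := PicGrp.exists_eq_cls (aT f hdim n)
  rw [cT, e]
  refine (isPicZeroCl_iff f hdim (T := Tw f n) hL).2 fun t => ?_
  obtain ⟨Ω, _, _, σ, hσ⟩ := exists_geom (Tw f n).left t
  let σ₀ := σ ≫ (Tw f n).hom
  let τ : Over.mk σ₀ ⟶ Tw f n := Over.homMk σ rfl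
  let L' := (Scheme.Modules.pullback (PicF.XTmap f τ)).obj L
  have hL' := PicLoc.isInvertible_pullback (PicF.XTmap f τ) hL
  have hC := isCurvePt f hdim σ₀
  letI := overPt f σ₀
  haveI := inst_proper f hdim σ₀
  have h : Curv2.deg Ω (Over.mk f ⊗ Over.mk σ₀).left L' 1 = 0 :=
    hasDeg_aT f hdim σ₀ n τ L' hL' (Subtype.ext (by
      rw [PicGrp.cls_val, PicCalc.ph_val, e, PicGrp.cls_val, whisker_left]; rfl))
  rw [deg_eq_curveDeg (Z := (Over.mk f ⊗ Over.mk σ₀).left) hC.dim.le] at h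
  rw [← hσ (closedPoint Ω)]
  exact (curveDeg_eq f hdim (HilbD.Basic.isPullback_XTmap f τ) hL).symm.trans h

variable (P₀ : Over S) (φ₀ : ∀ T : Over S, PicF.Cl (PicF.XT f T) → (T ⟶ P₀))
  (hP₀ : AbDual.IsRelPicZeroK Scheme.fppfPrecoverage f P₀ φ₀)

/-- The map of the tower. -/
def abel (n : ℕ) : Tw f n ⟶ P₀ := φ₀ _ (cT f hdim n)

include hP₀ in
/-- Every point is a difference of points. -/
theorem mem_range_abel (p : P₀.left) :
    p ∈ Set.range (abel f hdim P₀ φ₀ (CohIII.fiberRank f (Coh.structureModule C) 1 (P₀.hom p))).left := by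
  obtain ⟨R, hR, hl⟩ := hP₀.locallySurjective P₀ (𝟙 P₀)
  obtain ⟨U, u, hu, ⟨z, hz⟩, -, -⟩ := H34.PicDegree.exists_mem_cover hR p
  obtain ⟨c, hc, hφ⟩ := hl u hu
  obtain ⟨Ω, _, _, σ, hσ⟩ := exists_geom U z
  let σ₀ : Spec (CommRingCat.of Ω) ⟶ S := σ ≫ u ≫ P₀.hom
  let τ : Over.mk σ₀ ⟶ AbDual.ovr P₀ u := Over.homMk σ rfl
  obtain ⟨L, rfl, hL⟩ := isInvertibleCl_of_isPicZeroCl f hc
  let L' := (Scheme.Modules.pullback (PicF.XTmap f τ)).obj L
  have hL' : PicF.IsInvertible L' := PicLoc.isInvertible_pullback _ hL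
  have hC := isCurvePt f hdim σ₀
  letI := overPt f σ₀
  haveI := inst_proper f hdim σ₀
  have hd : Curv2.deg Ω (Over.mk f ⊗ Over.mk σ₀).left L' 1 = 0 := by
    rw [deg_eq_curveDeg (Z := (Over.mk f ⊗ Over.mk σ₀).left) hC.dim.le]
    exact (curveDeg_eq f hdim (HilbD.Basic.isPullback_XTmap f τ) hL).trans
      ((isPicZeroCl_iff f hdim hL).1 hc _)
  have hreach := reach_of_deg_eq_zero f hdim σ₀ hL' hd
  have hs : σ₀ (closedPoint Ω) = P₀.hom p := by
    show P₀.hom (u (σ (closedPoint Ω))) = P₀.hom p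
    rw [hσ, hz]
  rw [hs] at hreach
  obtain ⟨t, ht⟩ := hreach
  have h1 : t ≫ abel f hdim P₀ φ₀ _ = τ ≫ AbDual.ovrHom P₀ u := by
    rw [abel, ← hP₀.natural _ _ _ _ (isPicZeroCl_cT f hdim _)]
    have e : PicF.pullCl (PicF.XTmap f t) (cT f hdim (CohIII.fiberRank f (Coh.structureModule C) 1 (P₀.hom p))) =
        PicF.pullCl (PicF.XTmap f τ) (PicF.cl L) := by
      rw [← whisker_left, cT]
      exact congrArg Subtype.val ht
    rw [e, hP₀.natural _ _ _ _ hc, hφ, Category.comp_id]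
  refine ⟨t.left (closedPoint Ω), ?_⟩
  rw [← Scheme.Hom.comp_apply, ← Over.comp_left, h1]
  show u (σ (closedPoint Ω)) = p
  rw [hσ, hz]

include hdim hP₀ in
theorem isProper : LocallyOfFiniteType P₀.hom → IsProper P₀.hom := by
  intro hlft
  haveI : GeometricallyIntegral f := H2.Rigid.GeomIrred.geometricallyIntegral_of_smooth f
  haveI := H4.DualSep.isSeparated f P₀ φ₀ hP₀
  let g : S → ℕ := fun s => CohIII.fiberRank f (Coh.structureModule C) 1 s
  have hg := isLocallyConstant_genus f hdim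
  let V : ℕ → S.Opens := fun n => ⟨g ⁻¹' {n}, hg {n}⟩
  refine IsZariskiLocalAtTarget.of_iSup_eq_top (P := @IsProper) V
    (top_le_iff.1 fun s _ => TopologicalSpace.Opens.mem_iSup.2 ⟨g s, rfl⟩) fun n => ?_
  let a := (abel f hdim P₀ φ₀ n).left
  haveI : Surjective (a ∣_ (P₀.hom ⁻¹ᵁ V n)) := ⟨fun q => by
    have hq : g (P₀.hom ((P₀.hom ⁻¹ᵁ V n).ι q)) = n := q.2
    obtain ⟨w, hw⟩ := mem_range_abel f hdim P₀ φ₀ hP₀ ((P₀.hom ⁻¹ᵁ V n).ι q)
    revert w
    rw [show CohIII.fiberRank f (Coh.structureModule C) 1 (P₀.hom ((P₀.hom ⁻¹ᵁ V n).ι q)) = n from hq]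
    intro w hw
    refine ⟨⟨w, show a w ∈ P₀.hom ⁻¹ᵁ V n from hw ▸ q.2⟩, ?_⟩
    refine (P₀.hom ⁻¹ᵁ V n).ι.isOpenEmbedding.injective ?_
    rw [← Scheme.Hom.comp_apply, morphismRestrict_ι, Scheme.Hom.comp_apply]
    exact hw⟩
  haveI := (tower_props f n).1
  haveI : IsProper (a ∣_ (P₀.hom ⁻¹ᵁ V n) ≫ P₀.hom ∣_ V n) := by
    rw [← morphismRestrict_comp]
    exact IsZariskiLocalAtTarget.restrict (P := @IsProper) (by
      rw [show a ≫ P₀.hom = (Tw f n).hom from Over.w _]; infer_instance) _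
  haveI : UniversallyClosed (P₀.hom ∣_ V n) :=
    UniversallyClosed.of_comp_surjective (a ∣_ (P₀.hom ⁻¹ᵁ V n)) (P₀.hom ∣_ V n)
  haveI : IsSeparated (P₀.hom ∣_ V n) := IsZariskiLocalAtTarget.restrict (P := @IsSeparated) inferInstance _
  haveI : LocallyOfFiniteType (P₀.hom ∣_ V n) :=
    IsZariskiLocalAtTarget.restrict (P := @LocallyOfFiniteType) hlft _
  exact {}

include hdim hP₀ in
theorem geometricallyConnected : GeometricallyConnected P₀.hom := by
  refine ⟨geometrically_iff_of_isClosedUnderIsomorphisms.mpr fun K _ y => ?_⟩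
  let n := CohIII.fiberRank f (Coh.structureModule C) 1 (y (closedPoint K))
  let a := (abel f hdim P₀ φ₀ n).left
  haveI := (tower_props f n).2.2
  haveI : ConnectedSpace ↥(pullback (Tw f n).hom y) :=
    GeometricallyConnected.geometrically_connectedSpace _ _ _ (.of_hasPullback _ _)
  let m : pullback (Tw f n).hom y ⟶ pullback P₀.hom y :=
    pullback.map _ _ _ _ a (𝟙 _) (𝟙 _) (by rw [Category.comp_id]; exact (Over.w _).symm)
      (by rw [Category.comp_id, Category.id_comp])
  have hm : IsPullback m (pullback.fst (Tw f n).hom y) (pullback.fst P₀.hom y) a := by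
    refine IsPullback.of_right (h₁₂ := pullback.snd P₀.hom y) (v₁₃ := y) (h₂₂ := P₀.hom) ?_
      (pullback.lift_fst _ _ _) (IsPullback.of_hasPullback P₀.hom y).flip
    rw [show a ≫ P₀.hom = (Tw f n).hom from Over.w _,
      show m ≫ pullback.snd P₀.hom y = pullback.snd (Tw f n).hom y from
        (pullback.lift_snd _ _ _).trans (Category.comp_id _)]
    exact (IsPullback.of_hasPullback _ _).flip
  have hsurj : Function.Surjective m := by
    intro q
    have hp : CohIII.fiberRank f (Coh.structureModule C) 1 (P₀.hom (pullback.fst P₀.hom y q)) = n := by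
      rw [← Scheme.Hom.comp_apply, pullback.condition, Scheme.Hom.comp_apply,
        Subsingleton.elim (α := PrimeSpectrum K) (pullback.snd P₀.hom y q) (closedPoint K)]
    obtain ⟨w, hw⟩ := mem_range_abel f hdim P₀ φ₀ hP₀ (pullback.fst P₀.hom y q)
    revert w
    rw [hp]
    intro w hw
    obtain ⟨r, hr, -⟩ := Scheme.Pullback.exists_preimage_pullback q w hw.symm
    refine ⟨hm.isoPullback.inv r, ?_⟩
    rw [← Scheme.Hom.comp_apply, hm.isoPullback_inv_fst]
    exact hr
  exact hsurj.connectedSpace m.continuous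

end Groth.Agent.H58Jac
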