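import Groth.Agent.H58Jac.Effective
import Groth.Agent.H58Jac.Proper
import Groth.Agent.Lib.Flat55.DimSums
import Groth.Agent.Lib.Flat55.FlatEquidim
import Groth.Agent.Lib.AffineCompl.Dim
import Groth.Agent.Lib.TopDim.Basic
import Mathlib.AlgebraicGeometry.ZariskisMainTheorem

/-!
# The dimension of the Jacobian is the genus
-/

set_option autoImplicit false
set_option linter.style.haveILetI false
set_option backward.isDefEq.respectTransparency false
set_option backward.isDefEq.respectTransparency.types false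
universe u

open CategoryTheory CategoryTheory.Limits MonoidalCategory CartesianMonoidalCategory AlgebraicGeometry
open IsLocalRing (closedPoint)
open Groth.Agent.H3

noncomputable section

namespace Groth.Agent.H58Jac

open Groth.Agent Groth.Agent.Lib

local instance instLawDim (Y : Scheme.{u}) : PicGrp.Law Y := Groth.Agent.Lib.TensorMod.Invertible.law Y

attribute [local instance] overPt

theorem comm_aux₂ {G : Type*} [CommGroup G] (b q P d : G) :
    b * P * d⁻¹ * (q * P)⁻¹ = b * q⁻¹ * d⁻¹ := by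
  rw [mul_right_comm b P d⁻¹, mul_inv, mul_comm q⁻¹ P⁻¹, ← _root_.mul_assoc, mul_inv_cancel_right,
    mul_right_comm]

theorem comm_aux₃ {G : Type*} [CommGroup G] (D c Q P : G) : D * c * Q * P * D⁻¹ = c * (Q * P) := by
  rw [_root_.mul_assoc D c Q, _root_.mul_assoc D (c * Q) P, mul_comm D (c * Q * P), mul_inv_cancel_right,
    _root_.mul_assoc]

variable {C S : Scheme.{u}} (f : C ⟶ S) [IsProper f] [Smooth f] [GeometricallyConnected f]
  (hdim : ∀ s : S, topologicalKrullDim ↥(f.fiber s) = 1)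

include hdim in
/-- A class of degree zero at all geometric points is a class of `Pic⁰`. -/
theorem isPicZeroCl_of_hasDeg {T : Over S} (a : PicLoc.PicSet (Over.mk f ⊗ T).left)
    (h : ∀ (Ω : Type u) [Field Ω] [IsAlgClosed Ω] (σ₀ : Spec (CommRingCat.of Ω) ⟶ S)
      (τ : Over.mk σ₀ ⟶ T), HasDeg f σ₀ (PicCalc.ph (Over.mk f ◁ τ) a) 0) :
    AbDual.IsPicZeroCl f T a.1 := by
  obtain ⟨L, hL, e⟩ := PicGrp.exists_eq_cls a
  rw [e]
  refine (isPicZeroCl_iff f hdim (T := T) hL).2 fun t => ?_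
  obtain ⟨Ω, _, _, σ, hσ⟩ := exists_geom T.left t
  let σ₀ := σ ≫ T.hom
  let τ : Over.mk σ₀ ⟶ T := Over.homMk σ rfl
  let L' := (Scheme.Modules.pullback (PicF.XTmap f τ)).obj L
  have hL' := PicLoc.isInvertible_pullback (PicF.XTmap f τ) hL
  have hC := isCurvePt f hdim σ₀
  letI := overPt f σ₀
  haveI := inst_proper f hdim σ₀
  have h1 : Curv2.deg Ω (Over.mk f ⊗ Over.mk σ₀).left L' 1 = 0 :=
    h Ω σ₀ τ L' hL' (Subtype.ext (by
      rw [PicGrp.cls_val, PicCalc.ph_val, e, PicGrp.cls_val, whisker_left]; rfl))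
  rw [deg_eq_curveDeg (Z := (Over.mk f ⊗ Over.mk σ₀).left) hC.dim.le] at h1
  rw [← hσ (closedPoint Ω)]
  exact (curveDeg_eq f hdim (HilbD.Basic.isPullback_XTmap f τ) hL).symm.trans h1

variable {Ω : Type u} [Field Ω] [IsAlgClosed Ω] (σ₀ : Spec (CommRingCat.of Ω) ⟶ S)
  (p₀ : Over.mk σ₀ ⟶ Over.mk f)

/-- Powers of the curve over the geometric point. -/
def En : ℕ → Over S
  | 0 => Over.mk σ₀
  | n + 1 => En n ⊗ Over.mk f

/-- The projection to the geometric point. -/
def prE : ∀ n, En f σ₀ n ⟶ Over.mk σ₀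
  | 0 => 𝟙 _
  | n + 1 => fst (En f σ₀ n) (Over.mk f) ≫ prE n

/-- The sum of the points, normalised by the base point. -/
def bE : ∀ n, PicLoc.PicSet (Over.mk f ⊗ En f σ₀ n).left
  | 0 => 1
  | n + 1 => PicCalc.ph (Over.mk f ◁ fst (En f σ₀ n) (Over.mk f)) (bE n) *
      PicCalc.ph (Over.mk f ◁ (fst (En f σ₀ n) (Over.mk f) ≫ prE f σ₀ n ≫ p₀)) (dia f hdim) *
      (PicCalc.ph (Over.mk f ◁ snd (En f σ₀ n) (Over.mk f)) (dia f hdim))⁻¹

theorem ph_bE_succ {W : Over S} {n : ℕ} (t : W ⟶ En f σ₀ n ⊗ Over.mk f) :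
    PicCalc.ph (Over.mk f ◁ t)
        (bE f hdim σ₀ p₀ (n + 1) : PicLoc.PicSet (Over.mk f ⊗ (En f σ₀ n ⊗ Over.mk f)).left) =
      PicCalc.ph (Over.mk f ◁ (t ≫ fst _ _)) (bE f hdim σ₀ p₀ n) *
        PicCalc.ph (Over.mk f ◁ (t ≫ fst _ _ ≫ prE f σ₀ n ≫ p₀)) (dia f hdim) *
        (PicCalc.ph (Over.mk f ◁ (t ≫ snd _ _)) (dia f hdim))⁻¹ := by
  show PicCalc.ph (Over.mk f ◁ t) (_ * _ * _) = _
  rw [map_mul, map_mul, map_inv, ph_whisker, ph_whisker, ph_whisker]

include hdim in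
theorem hasDeg_bE : ∀ (n : ℕ) (Ω' : Type u) [Field Ω'] [IsAlgClosed Ω']
    (σ' : Spec (CommRingCat.of Ω') ⟶ S) (τ : Over.mk σ' ⟶ En f σ₀ n),
    HasDeg f σ' (PicCalc.ph (Over.mk f ◁ τ) (bE f hdim σ₀ p₀ n)) 0 := by
  intro n
  induction n with
  | zero => intro Ω' _ _ σ' τ; rw [bE, map_one]; exact HasDeg.one f hdim σ'
  | succ n ih =>
    intro Ω' _ _ σ' τ
    refine Eq.subst (motive := fun c => HasDeg f σ' c 0) (ph_bE_succ f hdim σ₀ p₀ τ).symm ?_
    simpa using HasDeg.mul f hdim σ' (HasDeg.mul f hdim σ' (ih Ω' σ' (τ ≫ fst _ _))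
      (hasDeg_dia f hdim σ' (τ ≫ fst _ _ ≫ prE f σ₀ n ≫ p₀)))
      (HasDeg.inv f hdim σ' (hasDeg_dia f hdim σ' (τ ≫ snd _ _)))

/-- The point of the curve given by a section. -/
def pt (p : Over.mk σ₀ ⟶ Over.mk f) : (Over.mk f ⊗ Over.mk σ₀).left :=
  (lift p (𝟙 (Over.mk σ₀))).left (closedPoint Ω)

include hdim in
theorem pt_injective : Function.Injective (pt f σ₀) := by
  intro p q h
  haveI := inst_proper f hdim σ₀
  have e : (lift p (𝟙 (Over.mk σ₀))).left = (lift q (𝟙 (Over.mk σ₀))).left := by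
    refine ext_of_apply_closedPoint_eq (PicF.XTproj f (Over.mk σ₀)) ?_ ?_ h
    · exact congrArg Over.Hom.left (lift_snd p (𝟙 (Over.mk σ₀)))
    · exact congrArg Over.Hom.left (lift_snd q (𝟙 (Over.mk σ₀)))
  rw [← lift_fst p (𝟙 (Over.mk σ₀)), ← lift_fst q (𝟙 (Over.mk σ₀)), Over.OverMorphism.ext e]

include hdim in
theorem exists_eq_pt {x : (Over.mk f ⊗ Over.mk σ₀).left}
    (hx : IsClosed ({x} : Set (Over.mk f ⊗ Over.mk σ₀).left)) :
    ∃ p, pt f σ₀ p = x := by
  let Z : Scheme.{u} := (Over.mk f ⊗ Over.mk σ₀).left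
  haveI := inst_proper f hdim σ₀
  haveI : LocallyOfFiniteType (Over.mk (Z ↘ Spec (CommRingCat.of Ω))).hom :=
    inferInstanceAs (LocallyOfFiniteType (Z ↘ Spec (CommRingCat.of Ω)))
  obtain ⟨s, hs⟩ := GrpQ.MonoClosed.exists_ptOf (X := Over.mk (Z ↘ Spec (CommRingCat.of Ω)))
    (s := ({x} : Set Z)) hx.isLocallyClosed (Set.singleton_nonempty x)
  let y : Spec (CommRingCat.of Ω) ⟶ Z := s.left
  have hy : y ≫ pullback.snd f σ₀ = 𝟙 _ := Over.w s
  let p : Over.mk σ₀ ⟶ Over.mk f := Over.homMk (y ≫ pullback.fst f σ₀) (by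
    show (y ≫ pullback.fst f σ₀) ≫ f = σ₀
    rw [Category.assoc, pullback.condition, ← Category.assoc, hy, Category.id_comp])
  refine ⟨p, ?_⟩
  have e : (lift p (𝟙 (Over.mk σ₀))).left = y := by
    refine pullback.hom_ext ?_ ?_
    · exact congrArg Over.Hom.left (lift_fst p (𝟙 (Over.mk σ₀)))
    · exact (congrArg Over.Hom.left (lift_snd p (𝟙 (Over.mk σ₀)))).trans hy.symm
  rw [pt, e]
  exact hs

/-- The class of a point. -/
abbrev Dp (p : Over.mk σ₀ ⟶ Over.mk f) : PicLoc.PicSet (Over.mk f ⊗ Over.mk σ₀).left :=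
  PicCalc.ph (Over.mk f ◁ p) (dia f hdim)

/-- All coordinates satisfy a condition. -/
def Coords (Q : (Over.mk σ₀ ⟶ Over.mk f) → Prop) : ∀ n, (Over.mk σ₀ ⟶ En f σ₀ n) → Prop
  | 0, _ => True
  | n + 1, t => Coords Q n (t ≫ fst _ _) ∧ Q (t ≫ snd _ _)

omit [IsProper f] [Smooth f] [GeometricallyConnected f] [IsAlgClosed Ω] in
theorem Coords.mono {Q Q' : (Over.mk σ₀ ⟶ Over.mk f) → Prop} (h : ∀ p, Q p → Q' p) :
    ∀ n (t : Over.mk σ₀ ⟶ En f σ₀ n), Coords f σ₀ Q n t → Coords f σ₀ Q' n t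
  | 0, _, _ => trivial
  | n + 1, t, ⟨h1, h2⟩ => ⟨Coords.mono h n _ h1, h _ h2⟩

omit [IsProper f] [Smooth f] [GeometricallyConnected f] [IsAlgClosed Ω] in
theorem finite_coords {Q : (Over.mk σ₀ ⟶ Over.mk f) → Prop} (hQ : {p | Q p}.Finite) :
    ∀ n, {t : Over.mk σ₀ ⟶ En f σ₀ n | t ≫ prE f σ₀ n = 𝟙 _ ∧ Coords f σ₀ Q n t}.Finite
  | 0 => (Set.finite_singleton (𝟙 (Over.mk σ₀))).subset fun t ht => by
      have h : t ≫ 𝟙 _ = 𝟙 _ := ht.1
      rw [Category.comp_id] at h
      exact h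
  | n + 1 => (((finite_coords hQ n).prod hQ).image fun ap => lift ap.1 ap.2).subset fun t ht => by
      refine ⟨(t ≫ fst _ _, t ≫ snd _ _), ⟨⟨?_, ht.2.1⟩, ht.2.2⟩, ?_⟩
      · exact (Category.assoc _ _ _).trans ht.1
      · exact lift_comp_fst_snd t

include hdim in
/-- The coordinates of a tuple are zeros of every section of its class. -/
theorem eff_coords : ∀ (n : ℕ) (t : Over.mk σ₀ ⟶ En f σ₀ n), t ≫ prE f σ₀ n = 𝟙 _ →
    Eff (PicCalc.ph (Over.mk f ◁ t) (bE f hdim σ₀ p₀ n) * (Dp f hdim σ₀ p₀ ^ n)⁻¹) ∧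
      Coords f σ₀ (fun q => Eff (Dp f hdim σ₀ q *
        (PicCalc.ph (Over.mk f ◁ t) (bE f hdim σ₀ p₀ n) * (Dp f hdim σ₀ p₀ ^ n)⁻¹))) n t := by
  have hC := isCurvePt f hdim σ₀
  haveI := inst_proper f hdim σ₀
  haveI : IsIntegral (Over.mk f ⊗ Over.mk σ₀).left := hC.integral
  haveI : Smooth ((Over.mk f ⊗ Over.mk σ₀).left ↘ Spec (CommRingCat.of Ω)) := hC.smooth
  haveI : GeometricallyConnected ((Over.mk f ⊗ Over.mk σ₀).left ↘ Spec (CommRingCat.of Ω)) := hC.conn
  have up : ∀ (c : PicLoc.PicSet (Over.mk f ⊗ Over.mk σ₀).left) (p : Over.mk σ₀ ⟶ Over.mk f),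
      Eff c → Eff (c * (Dp f hdim σ₀ p)⁻¹) := by
    intro c p hc
    obtain ⟨_, hI, e, -⟩ := point_class f hdim σ₀ p
    rw [show Dp f hdim σ₀ p = _ from e]
    exact Eff.mul_inv_point (k := Ω) (X := (Over.mk f ⊗ Over.mk σ₀).left) hC.dim.le hc hI
  intro n
  induction n with
  | zero =>
    intro t _
    refine ⟨?_, trivial⟩
    rw [bE, map_one, pow_zero, inv_one, _root_.mul_one]
    refine ⟨_, PicLoc.isInvertible_structureModule _, PicGrp.cls_structureModule_eq_one, ?_⟩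
    exact Module.nontrivial_of_finrank_pos (R := Ω) (by
      rw [CurveFF.finrank_h0_eq_one Ω (Over.mk f ⊗ Over.mk σ₀).left]; exact one_pos)
  | succ n ih =>
    intro t ht
    let t' : Over.mk σ₀ ⟶ En f σ₀ n := t ≫ fst (En f σ₀ n) (Over.mk f)
    let p : Over.mk σ₀ ⟶ Over.mk f := t ≫ snd (En f σ₀ n) (Over.mk f)
    have ht' : t' ≫ prE f σ₀ n = 𝟙 _ := (Category.assoc _ _ _).trans ht
    obtain ⟨h1, h2⟩ := ih t' ht'
    let c' := PicCalc.ph (Over.mk f ◁ t') (bE f hdim σ₀ p₀ n) * (Dp f hdim σ₀ p₀ ^ n)⁻¹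
    have hb : PicCalc.ph (Over.mk f ◁ t) (bE f hdim σ₀ p₀ (n + 1)) * (Dp f hdim σ₀ p₀ ^ (n + 1))⁻¹ =
        c' * (Dp f hdim σ₀ p)⁻¹ := by
      refine (congrArg (· * (Dp f hdim σ₀ p₀ ^ (n + 1))⁻¹) (ph_bE_succ f hdim σ₀ p₀ t)).trans ?_
      have hp : t ≫ fst (En f σ₀ n) (Over.mk f) ≫ prE f σ₀ n ≫ p₀ = p₀ := by
        rw [← Category.assoc, ← Category.assoc, Category.assoc t, show t ≫ fst _ _ ≫ prE f σ₀ n = 𝟙 _ from ht,
          Category.id_comp]
      rw [hp, pow_succ]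
      exact comm_aux₂ _ _ _ _
    rw [hb]
    refine ⟨up c' p h1, ?_, ?_⟩
    · refine Coords.mono f σ₀ (fun q hq => ?_) n _ h2
      rw [← _root_.mul_assoc]
      exact up _ p hq
    · show Eff (Dp f hdim σ₀ p * (c' * (Dp f hdim σ₀ p)⁻¹))
      rw [mul_left_comm, _root_.mul_inv_cancel, _root_.mul_one]
      exact h1

include hdim in
/-- Effective classes come from tuples. -/
theorem exists_tuple : ∀ (n : ℕ) (M : (Over.mk f ⊗ Over.mk σ₀).left.Modules) (hM : PicF.IsInvertible M),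
    Curv2.deg Ω _ M 1 = n → Nontrivial (Coh.HH _ M 0) →
    ∃ t : Over.mk σ₀ ⟶ En f σ₀ n, t ≫ prE f σ₀ n = 𝟙 _ ∧
      PicCalc.ph (Over.mk f ◁ t) (bE f hdim σ₀ p₀ n) = PicGrp.cls M hM * Dp f hdim σ₀ p₀ ^ n := by
  let Z : Scheme.{u} := (Over.mk f ⊗ Over.mk σ₀).left
  have hC := isCurvePt f hdim σ₀
  haveI := inst_proper f hdim σ₀
  haveI : IsIntegral Z := hC.integral
  haveI := Curves.GlobalSections.noetherianSpace_of_proper Ω Z
  have hd1 : topologicalKrullDim Z ≤ 1 := hC.dim.le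
  intro n
  induction n with
  | zero =>
    intro M hM hMd hs
    obtain ⟨s, hs⟩ := Curves.Positivity.exists_section_of_nontrivial hs
    haveI := Curves.Positivity.isIso_of_deg_eq (k := Ω) hd1 (PicLoc.isInvertible_structureModule Z)
      hM (Curves.Degree.isGood_structureModule hd1) (Curves.Degree.isGood hd1 hM) hs
      (by rw [Curves.Degree.deg_structureModule, hMd]; rfl)
    refine ⟨𝟙 _, Category.id_comp _, ?_⟩
    rw [bE, map_one, pow_zero, _root_.mul_one,
      (PicGrp.cls_eq_cls_iff hM (PicLoc.isInvertible_structureModule Z)).2 ⟨(asIso s).symm⟩,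
      PicGrp.cls_structureModule_eq_one]
  | succ n ih =>
    intro M hM hMd hs
    obtain ⟨x, hx, hsx⟩ := H58AE.exists_point_section hd1 hM hs (by rw [hMd]; omega)
    obtain ⟨p, rfl⟩ := exists_eq_pt f hdim σ₀ hx
    obtain ⟨_, hI, hp, hdeg⟩ := point_class f hdim σ₀ p
    have hM' := TensorMod.Invertible.isInvertible_tensorMod hI hM
    obtain ⟨t', ht', h1⟩ := ih _ hM' (by
      rw [Curves.Degree.deg_tensor hd1 hI hM, hdeg _ hI rfl, hMd]; push_cast; ring) hsx
    let D : PicLoc.PicSet Z := Dp f hdim σ₀ p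
    have e : PicGrp.cls _ hM' = D * PicGrp.cls M hM := by
      rw [show D = _ from hp]; exact Subtype.ext (PicGrp.cls_mul_cls_val hI hM).symm
    refine ⟨lift t' p, ?_, ?_⟩
    · show lift t' p ≫ fst _ _ ≫ prE f σ₀ n = 𝟙 _
      rw [lift_fst_assoc]; exact ht'
    · refine (ph_bE_succ f hdim σ₀ p₀ (lift t' p)).trans ?_
      rw [lift_fst, lift_fst_assoc, lift_snd, ← Category.assoc, ht', Category.id_comp, h1, e, pow_succ]
      exact comm_aux₃ (G := PicLoc.PicSet Z) _ _ _ _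

omit [IsAlgClosed Ω] in
theorem prE_props : ∀ n, IsProper (prE f σ₀ n).left ∧ Smooth (prE f σ₀ n).left ∧
    GeometricallyConnected (prE f σ₀ n).left
  | 0 => by
    refine ⟨inferInstanceAs (IsProper (𝟙 _)), inferInstanceAs (Smooth (𝟙 _)), ⟨?_⟩⟩
    intro K _ y P p₁ p₂ hP
    haveI : IsIso (prE f σ₀ 0).left := inferInstanceAs (IsIso (𝟙 _))
    haveI : IsIso p₂ := hP.isIso_snd_of_isIso
    haveI : Nonempty (Spec (CommRingCat.of K)) := inferInstanceAs (Nonempty (PrimeSpectrum K))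
    haveI : Subsingleton (Spec (CommRingCat.of K)) := inferInstanceAs (Subsingleton (PrimeSpectrum K))
    haveI : ConnectedSpace (Spec (CommRingCat.of K)) := ⟨inferInstance⟩
    exact (Scheme.homeoOfIso (asIso p₂)).connectedSpace_iff.2 inferInstance
  | n + 1 => by
    obtain ⟨h1, h2, h3⟩ := prE_props n
    exact ⟨inferInstanceAs (IsProper (pullback.fst (En f σ₀ n).hom f ≫ (prE f σ₀ n).left)),
      inferInstanceAs (Smooth (pullback.fst (En f σ₀ n).hom f ≫ (prE f σ₀ n).left)),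
      GeometricallyConnected.comp (pullback.fst (En f σ₀ n).hom f) (prE f σ₀ n).left⟩

include hdim in
theorem dim_En : ∀ n : ℕ, topologicalKrullDim (En f σ₀ n).left = (n : WithBot ℕ∞)
  | 0 => by
    haveI : DiscreteTopology (En f σ₀ 0).left :=
      inferInstanceAs (DiscreteTopology (Spec (CommRingCat.of Ω)))
    haveI : Nonempty (En f σ₀ 0).left := inferInstanceAs (Nonempty (PrimeSpectrum Ω))
    exact le_antisymm (topologicalKrullDim_zero_of_discreteTopology _) TopDim.Basic.topologicalKrullDim_nonneg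
  | n + 1 => by
    haveI := (prE_props f σ₀ n).1
    have hC := isCurvePt f hdim σ₀
    haveI := hC.proper
    have sq := HilbD.Basic.isPullback_XTmap f (prE f σ₀ n)
    let e : (En f σ₀ (n + 1)).left ≅ pullback (PicF.XTproj f (Over.mk σ₀)) (prE f σ₀ n).left :=
      pullbackSymmetry (En f σ₀ n).hom f ≪≫ sq.isoPullback
    rw [(Scheme.homeoOfIso e).isHomeomorph.topologicalKrullDim_eq, Flat55.DimSums.dim_pullback]
    rw [show topologicalKrullDim ↥(PicF.XT f (Over.mk σ₀)) = 1 from hC.dim]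
    rw [show topologicalKrullDim ↥(En f σ₀ n).left = n from dim_En n]
    push_cast
    exact add_comm _ _

variable (P₀ : Over S) (φ₀ : ∀ T : Over S, PicF.Cl (PicF.XT f T) → (T ⟶ P₀))
  (hP₀ : AbDual.IsRelPicZeroK Scheme.fppfPrecoverage f P₀ φ₀)

omit [IsProper f] [Smooth f] [GeometricallyConnected f] in
/-- A cover of a geometric point has a member with a section. -/
theorem exists_section_mem {R : Presieve (Spec (CommRingCat.of Ω))}
    (hR : R ∈ Scheme.fppfPrecoverage (Spec (CommRingCat.of Ω))) :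
    ∃ (V : Scheme.{u}) (v : V ⟶ Spec (CommRingCat.of Ω)) (_ : R v)
      (s : Over.mk σ₀ ⟶ AbDual.ovr (Over.mk σ₀) v), s ≫ AbDual.ovrHom (Over.mk σ₀) v = 𝟙 _ := by
  obtain ⟨V, v, hv, ⟨z, -⟩, -, hfp⟩ := H34.PicDegree.exists_mem_cover hR (closedPoint Ω)
  haveI : LocallyOfFiniteType (Over.mk v).hom := inferInstanceAs (LocallyOfFiniteType v)
  obtain ⟨s, -⟩ := GrpQ.MonoClosed.exists_ptOf (X := Over.mk v) (s := (Set.univ : Set V))
    isClosed_univ.isLocallyClosed ⟨z, trivial⟩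
  let s₀ : Spec (CommRingCat.of Ω) ⟶ V := s.left
  have hs : s₀ ≫ v = 𝟙 _ := Over.w s
  refine ⟨V, v, hv, Over.homMk s₀ ?_, Over.OverMorphism.ext hs⟩
  show s₀ ≫ v ≫ σ₀ = σ₀
  rw [← Category.assoc, hs, Category.id_comp]

include hP₀ in
/-- Classes at a geometric point with the same image are equal. -/
theorem eq_of_point_eq {a b : PicF.Cl (PicF.XT f (Over.mk σ₀))}
    (ha : AbDual.IsPicZeroCl f (Over.mk σ₀) a) (hb : AbDual.IsPicZeroCl f (Over.mk σ₀) b)
    (h : φ₀ _ a = φ₀ _ b) : a = b := by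
  obtain ⟨R, hR, hl⟩ := hP₀.locallyInjective _ _ _ ha hb h
  obtain ⟨V, v, hv, s, hs⟩ := exists_section_mem σ₀ hR
  have h1 := congrArg (PicF.pullCl (PicF.XTmap f s)) (hl v hv)
  rwa [← PicLoc.pullCl_comp, ← PicLoc.pullCl_comp, ← HilbD.Basic.XTmap_comp, hs, HilbD.Basic.XTmap_id,
    PicLoc.pullCl_id, PicLoc.pullCl_id] at h1

include hdim hP₀ in
/-- The dimension of the geometric fibre of `Pic⁰` is the genus. -/
theorem dim_geom [LocallyOfFiniteType P₀.hom] :
    topologicalKrullDim ↥(pullback P₀.hom σ₀) =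
      (CohIII.fiberRank f (Coh.structureModule C) 1 (σ₀ (closedPoint Ω)) : WithBot ℕ∞) := by
  let Z : Scheme.{u} := (Over.mk f ⊗ Over.mk σ₀).left
  have hC := isCurvePt f hdim σ₀
  haveI := inst_proper f hdim σ₀
  haveI : IsIntegral Z := hC.integral
  haveI : Smooth (Z ↘ Spec (CommRingCat.of Ω)) := hC.smooth
  haveI : GeometricallyConnected (Z ↘ Spec (CommRingCat.of Ω)) := hC.conn
  haveI := Curves.GlobalSections.noetherianSpace_of_proper Ω Z
  have hd1 : topologicalKrullDim Z ≤ 1 := hC.dim.le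
  let g := CohIII.fiberRank f (Coh.structureModule C) 1 (σ₀ (closedPoint Ω))
  have hg : Curv2.genus Ω Z = g := genus_eq f hdim σ₀
  have h0 : Module.finrank Ω (Coh.HH Z (Coh.structureModule Z) 0) = 1 := CurveFF.finrank_h0_eq_one Ω Z
  haveI : Nonempty Z := inferInstance
  obtain ⟨x₀, -, hx₀⟩ := IsClosed.exists_closed_singleton (S := (Set.univ : Set Z)) isClosed_univ
    Set.univ_nonempty
  obtain ⟨p₀, -⟩ := exists_eq_pt f hdim σ₀ hx₀
  haveI : GeometricallyIntegral f := H2.Rigid.GeomIrred.geometricallyIntegral_of_smooth f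
  haveI := H4.DualSep.isSeparated f P₀ φ₀ hP₀
  let Q : Scheme.{u} := pullback P₀.hom σ₀
  let E := En f σ₀ g
  let pr := prE f σ₀ g
  haveI := (prE_props f σ₀ g).1
  haveI := (prE_props f σ₀ g).2.1
  haveI := (prE_props f σ₀ g).2.2
  have hz : AbDual.IsPicZeroCl f E (bE f hdim σ₀ p₀ g).1 :=
    isPicZeroCl_of_hasDeg f hdim _ fun Ω' _ _ σ' τ => hasDeg_bE f hdim σ₀ p₀ g Ω' σ' τ
  let φb : E ⟶ P₀ := φ₀ E (bE f hdim σ₀ p₀ g).1
  let Φ : E.left ⟶ Q := pullback.lift φb.left pr.left ((Over.w φb).trans (Over.w pr).symm)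
  haveI : IsProper (Φ ≫ pullback.snd P₀.hom σ₀) := by
    rw [pullback.lift_snd]; infer_instance
  haveI : IsProper Φ := IsProper.of_comp Φ (pullback.snd P₀.hom σ₀)
  -- the image of a point of `E`
  have hΦ : ∀ t : Over.mk σ₀ ⟶ E, t ≫ pr = 𝟙 _ → ∀ c : PicLoc.PicSet Z,
      PicCalc.ph (Over.mk f ◁ t) (bE f hdim σ₀ p₀ g) = c →
      t.left ≫ Φ = pullback.lift (φ₀ (Over.mk σ₀) c.1).left (𝟙 _)
        ((Over.w _).trans (Category.id_comp σ₀).symm) ∧
      AbDual.IsPicZeroCl f (Over.mk σ₀) c.1 := by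
    intro t ht c hc
    have e : PicF.pullCl (PicF.XTmap f t) (bE f hdim σ₀ p₀ g).1 = c.1 := by
      rw [← hc, ← whisker_left]; rfl
    refine ⟨pullback.hom_ext ?_ ?_, e ▸ isPicZeroCl_pullCl f hdim t hz⟩
    · rw [Category.assoc, pullback.lift_fst, pullback.lift_fst, ← e, hP₀.natural _ _ _ _ hz]
      rfl
    · rw [Category.assoc, pullback.lift_snd, pullback.lift_snd]
      exact congrArg Over.Hom.left ht
  haveI : JacobsonSpace Q := LocallyOfFiniteType.jacobsonSpace (pullback.snd P₀.hom σ₀)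
  haveI : JacobsonSpace (Over.mk σ₀).left := inferInstanceAs (JacobsonSpace (Spec (CommRingCat.of Ω)))
  haveI : JacobsonSpace E.left := LocallyOfFiniteType.jacobsonSpace pr.left
  -- surjectivity
  have hsurj : Function.Surjective Φ := by
    have hcl : IsClosed (Set.range Φ) := Φ.isClosedMap.isClosed_range
    have hsub : closedPoints Q ⊆ Set.range Φ := by
      intro q hq
      haveI : LocallyOfFiniteType (Over.mk (pullback.snd P₀.hom σ₀)).hom :=
        inferInstanceAs (LocallyOfFiniteType (pullback.snd P₀.hom σ₀))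
      obtain ⟨s, hs⟩ := GrpQ.MonoClosed.exists_ptOf (X := Over.mk (pullback.snd P₀.hom σ₀))
        (s := ({q} : Set Q)) (IsClosed.isLocallyClosed hq) (Set.singleton_nonempty q)
      let y₀ : Spec (CommRingCat.of Ω) ⟶ Q := s.left
      have hy₀ : y₀ ≫ pullback.snd P₀.hom σ₀ = 𝟙 _ := Over.w s
      let y : Over.mk σ₀ ⟶ P₀ := Over.homMk (y₀ ≫ pullback.fst P₀.hom σ₀) (by
        show (y₀ ≫ pullback.fst P₀.hom σ₀) ≫ P₀.hom = σ₀
        rw [Category.assoc, pullback.condition, ← Category.assoc, hy₀, Category.id_comp])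
      obtain ⟨R, hR, hl⟩ := hP₀.locallySurjective _ y
      obtain ⟨V, v, hv, sv, hsv⟩ := exists_section_mem σ₀ hR
      obtain ⟨c₀, hc₀, hφ⟩ := hl v hv
      have hcz := isPicZeroCl_pullCl f hdim sv hc₀
      have hy : φ₀ _ (PicF.pullCl (PicF.XTmap f sv) c₀) = y := by
        rw [hP₀.natural _ _ _ _ hc₀, hφ, ← Category.assoc, hsv, Category.id_comp]
      obtain ⟨L, hcL, hL⟩ := isInvertibleCl_of_isPicZeroCl f hcz
      rw [← hcL] at hcz hy
      have hLd : Curv2.deg Ω Z L 1 = 0 := by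
        rw [deg_eq_curveDeg (Z := (Over.mk f ⊗ Over.mk σ₀).left) hC.dim.le]
        have h1 := curveDeg_eq f hdim (sqPt f σ₀) hL
        rw [(isPicZeroCl_iff f hdim hL).1 hcz] at h1
        refine Eq.trans ?_ h1
        simp only [Pic13.curveDeg, FGA.eulerCharLE]
        congr 1
        refine Finset.sum_congr rfl fun i _ => ?_
        congr 1
        exact_mod_cast Curves.Euler.hdim_eq_of_iso (k := Ω) (X := Z)
          ((Scheme.Modules.pullbackId _).app L).symm i
      obtain ⟨M, hM, hMc⟩ := PicGrp.exists_eq_cls (PicGrp.cls (Y := Z) L hL * (Dp f hdim σ₀ p₀ ^ g)⁻¹)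
      have hPn : ∀ m : ℕ, HasDeg f σ₀ (Dp f hdim σ₀ p₀ ^ m) (-(m : ℤ)) := by
        intro m
        induction m with
        | zero => simpa using HasDeg.one f hdim σ₀
        | succ m ih =>
          rw [pow_succ]
          convert HasDeg.mul f hdim σ₀ ih (hasDeg_dia f hdim σ₀ p₀) using 1
          push_cast; ring
      have hMd : Curv2.deg Ω Z M 1 = g := by
        have h3 := HasDeg.mul f hdim σ₀ (c := PicGrp.cls (Y := Z) L hL) (m := 0)
          (fun N hN e => (Curves.Euler.deg_eq_of_iso ((PicGrp.cls_eq_cls_iff _ _).1 e).some 1).trans hLd)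
          (HasDeg.inv f hdim σ₀ (hPn g)) M hM hMc.symm
        rw [show (g : ℤ) = 0 + -(-(g : ℤ)) by ring]
        exact h3
      have hsec : Nontrivial (Coh.HH Z M 0) := by
        have hrr := Curves.Degree.riemann_roch (k := Ω) hd1 h0 hM
        haveI := (Curves.Degree.isGood (k := Ω) hd1 hM).fin₀
        refine Module.nontrivial_of_finrank_pos (R := Ω) ?_
        simp only [Curves.Euler.hdim] at hrr
        omega
      obtain ⟨t, ht, htc⟩ := exists_tuple f hdim σ₀ p₀ g M hM hMd hsec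
      rw [← hMc, inv_mul_cancel_right] at htc
      refine ⟨t.left (closedPoint Ω), ?_⟩
      rw [← Scheme.Hom.comp_apply, (hΦ t ht _ htc).1]
      have e : pullback.lift (φ₀ (Over.mk σ₀) (PicGrp.cls L hL).1).left (𝟙 _)
          ((Over.w _).trans (Category.id_comp σ₀).symm) = y₀ := by
        refine pullback.hom_ext ?_ ?_
        · rw [pullback.lift_fst]; exact congrArg Over.Hom.left hy
        · rw [pullback.lift_snd, hy₀]; rfl
      rw [e]
      exact hs
    intro q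
    have := closure_mono hsub
    rw [closure_closedPoints, hcl.closure_eq] at this
    exact this (Set.mem_univ q)
  -- a finite fibre
  obtain ⟨M, hM, hMd, hM1⟩ := exists_single (k := Ω) (X := Z) hC.dim h0
  haveI := (Curves.Degree.isGood (k := Ω) hd1 hM).fin₀
  have hMn : Nontrivial (Coh.HH Z M 0) := Module.nontrivial_of_finrank_pos (R := Ω)
    (by simp only [Curves.Euler.hdim] at hM1; omega)
  obtain ⟨t₁, ht₁, hb₁⟩ := exists_tuple f hdim σ₀ p₀ g M hM (by rw [hMd, hg]) hMn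
  let e₁ : E.left := t₁.left (closedPoint Ω)
  have he₁ : IsClosed ({e₁} : Set E.left) := by
    haveI : IsClosedImmersion t₁.left := by
      haveI : IsClosedImmersion (t₁.left ≫ pr.left) := by
        rw [show t₁.left ≫ pr.left = 𝟙 _ from congrArg Over.Hom.left ht₁]; infer_instance
      exact IsClosedImmersion.of_comp t₁.left pr.left
    have hr : Set.range t₁.left = {e₁} := Set.Subset.antisymm
      (by rintro _ ⟨w, rfl⟩; rw [Subsingleton.elim (α := PrimeSpectrum Ω) w (closedPoint Ω)]; rfl)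
      (by rintro _ rfl; exact ⟨_, rfl⟩)
    exact hr ▸ t₁.left.isClosedEmbedding.isClosed_range
  obtain ⟨F, hFfin, -, -, hF⟩ := exists_finite_zeros (k := Ω) (X := Z) hC.dim hM hMn
  have hQfin : {q : Over.mk σ₀ ⟶ Over.mk f | Eff (Dp f hdim σ₀ q * PicGrp.cls M hM)}.Finite := by
    refine (hFfin.preimage (pt_injective f hdim σ₀).injOn).subset ?_
    rintro q ⟨N, hN, hNc, hNn⟩
    show pt f σ₀ q ∈ F
    by_contra hqF
    obtain ⟨hcl, hI, e, -⟩ := point_class f hdim σ₀ q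
    have hlt := hF _ hcl hqF
    rw [show Dp f hdim σ₀ q = _ from e] at hNc
    obtain ⟨i⟩ := (PicGrp.cl_eq_cl_iff _ _).1 ((congrArg Subtype.val hNc).trans (PicGrp.cls_mul_cls_val hI hM))
    haveI := (Curves.Degree.isGood (k := Ω) hd1 hN).fin₀
    haveI := hNn
    have hpos : 0 < Curves.Euler.hdim Ω Z N 0 := Module.finrank_pos
    rw [Curves.Euler.hdim_eq_of_iso (k := Ω) i 0] at hpos
    exact absurd (lt_of_lt_of_le hlt hM1.le) (Nat.not_lt.2 hpos)
  let A : Set E.left := Φ ⁻¹' {Φ e₁}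
  have hAcl : IsClosed A := by
    have h1 := Φ.isClosedMap _ he₁
    rw [Set.image_singleton] at h1
    exact h1.preimage Φ.continuous
  have hAfin : (A ∩ closedPoints E.left).Finite := by
    refine ((finite_coords f σ₀ hQfin g).image fun t => t.left (closedPoint Ω)).subset ?_
    rintro a ⟨haA, hac⟩
    haveI : LocallyOfFiniteType (Over.mk pr.left).hom := inferInstanceAs (LocallyOfFiniteType pr.left)
    obtain ⟨s, hs⟩ := GrpQ.MonoClosed.exists_ptOf (X := Over.mk pr.left)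
      (s := ({a} : Set E.left)) (IsClosed.isLocallyClosed hac) (Set.singleton_nonempty a)
    let a₀ : Spec (CommRingCat.of Ω) ⟶ E.left := s.left
    have ha₀ : a₀ ≫ pr.left = 𝟙 _ := Over.w s
    let t : Over.mk σ₀ ⟶ E := Over.homMk a₀ (by
      show a₀ ≫ E.hom = σ₀
      rw [← Over.w pr, ← Category.assoc, ha₀]; exact Category.id_comp _)
    have ht : t ≫ pr = 𝟙 _ := Over.OverMorphism.ext ha₀
    refine ⟨t, ⟨ht, ?_⟩, hs⟩
    let c := PicCalc.ph (Over.mk f ◁ t) (bE f hdim σ₀ p₀ g)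
    have heq : t.left ≫ Φ = t₁.left ≫ Φ := by
      refine ext_of_apply_closedPoint_eq (pullback.snd P₀.hom σ₀) ?_ ?_ ?_
      · rw [Category.assoc, pullback.lift_snd]; exact ha₀
      · rw [Category.assoc, pullback.lift_snd]; exact congrArg Over.Hom.left ht₁
      · show Φ (t.left (closedPoint Ω)) = Φ e₁
        rw [show t.left (closedPoint Ω) = a from hs]
        exact haA
    rw [(hΦ t ht c rfl).1, (hΦ t₁ ht₁ _ hb₁).1] at heq
    have h3 := congrArg (· ≫ pullback.fst P₀.hom σ₀) heq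
    simp only [pullback.lift_fst] at h3
    have hc : c = PicGrp.cls M hM * Dp f hdim σ₀ p₀ ^ g := Subtype.ext
      (eq_of_point_eq f σ₀ P₀ φ₀ hP₀ (hΦ t ht c rfl).2 (hΦ t₁ ht₁ _ hb₁).2 (Over.OverMorphism.ext h3))
    have h4 := (eff_coords f hdim σ₀ p₀ g t ht).2
    refine Coords.mono f σ₀ (fun q hq => ?_) g t h4
    have e5 : PicCalc.ph (Over.mk f ◁ t) (bE f hdim σ₀ p₀ g) * (Dp f hdim σ₀ p₀ ^ g)⁻¹ = PicGrp.cls M hM := by
      rw [show PicCalc.ph (Over.mk f ◁ t) (bE f hdim σ₀ p₀ g) = _ from hc, mul_inv_cancel_right]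
    rwa [e5] at hq
  have hAsub : A ⊆ closedPoints E.left := by
    have hK : IsClosed (A ∩ closedPoints E.left) := by
      rw [← Set.biUnion_of_singleton (A ∩ closedPoints E.left)]
      exact hAfin.isClosed_biUnion fun a ha => ha.2
    intro a ha
    rw [← closure_inter_closedPoints hAcl, hK.closure_eq] at ha
    exact ha.2
  have hqf : Φ.QuasiFiniteAt e₁ := by
    rw [Scheme.Hom.quasiFiniteAt_iff_isOpen_singleton_asFiber]
    haveI : DiscreteTopology A :=
      isDiscrete_iff_discreteTopology.mp (Set.Finite.isDiscrete_of_subset_closedPoints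
        (hAfin.subset fun a ha => ⟨ha, hAsub ha⟩) hAsub)
    haveI : DiscreteTopology ↥(Φ.fiber (Φ e₁)) := (Φ.fiberHomeo (Φ e₁)).isEmbedding.discreteTopology
    exact isOpen_discrete _
  let U := Φ.quasiFiniteLocus
  haveI : Nonempty U := ⟨⟨e₁, hqf⟩⟩
  refine le_antisymm ?_ ?_
  · rw [← dim_En f hdim σ₀ g]
    exact Flat55.DimSums.dim_le_of_surjective Φ hsurj (Or.inr Φ.isClosedMap)
  · haveI : ConnectedSpace E.left := by
      haveI : Nonempty (Spec (CommRingCat.of Ω)) := inferInstanceAs (Nonempty (PrimeSpectrum Ω))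
      haveI : Subsingleton (Spec (CommRingCat.of Ω)) := inferInstanceAs (Subsingleton (PrimeSpectrum Ω))
      haveI : Nonempty (Over.mk σ₀).left := inferInstanceAs (Nonempty (PrimeSpectrum Ω))
      haveI : Subsingleton (Over.mk σ₀).left := inferInstanceAs (Subsingleton (PrimeSpectrum Ω))
      exact GeometricallyConnected.connectedSpace_of_subsingleton pr.left
    haveI : IsIntegral E.left := H2.Rigid.GeomIrred.isIntegral_of_smooth pr.left
    rw [← dim_En f hdim σ₀ g, ← AffineCompl.Dim.topologicalKrullDim_opens pr.left U]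
    exact (Flat55.FlatEquidim.topologicalKrullDim_le_of_quasiFinite (U.ι ≫ Φ)).trans
      (isClosed_closure.isClosedEmbedding_subtypeVal.isInducing.topologicalKrullDim_le)

include hdim hP₀ in
/-- The dimension of the fibre of `Pic⁰` is the genus. -/
theorem dim_fiber [LocallyOfFiniteType P₀.hom] (s : S) :
    topologicalKrullDim ↥(P₀.hom.fiber s) =
      (CohIII.fiberRank f (Coh.structureModule C) 1 s : WithBot ℕ∞) := by
  let Ω' := AlgebraicClosure (S.residueField s)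
  let b : Spec (CommRingCat.of Ω') ⟶ Spec (S.residueField s) :=
    Spec.map (CommRingCat.ofHom (algebraMap (S.residueField s) Ω'))
  let σ : Spec (CommRingCat.of Ω') ⟶ S := b ≫ S.fromSpecResidueField s
  let g' : pullback P₀.hom σ ⟶ P₀.hom.fiber s :=
    pullback.lift (pullback.fst P₀.hom σ) (pullback.snd P₀.hom σ ≫ b)
      (pullback.condition.trans (Category.assoc _ _ _).symm)
  have sq : IsPullback g' (pullback.snd P₀.hom σ) (P₀.hom.fiberToSpecResidueField s) b := by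
    refine IsPullback.of_right (h₁₂ := P₀.hom.fiberι s) (v₁₃ := P₀.hom) (h₂₂ := S.fromSpecResidueField s) ?_
      (pullback.lift_snd _ _ _) (IsPullback.of_hasPullback P₀.hom (S.fromSpecResidueField s))
    rw [show g' ≫ P₀.hom.fiberι s = pullback.fst P₀.hom σ from pullback.lift_fst _ _ _]
    exact IsPullback.of_hasPullback P₀.hom σ
  haveI : LocallyOfFiniteType (P₀.hom.fiberToSpecResidueField s) :=
    MorphismProperty.of_isPullback (P := @LocallyOfFiniteType)
      (IsPullback.of_hasPullback P₀.hom (S.fromSpecResidueField s)) inferInstance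
  rw [← H56.DimBaseChange.topologicalKrullDim_baseChange b (P₀.hom.fiberToSpecResidueField s)
    (pullback.snd P₀.hom σ) g' sq, dim_geom f hdim σ P₀ φ₀ hP₀,
    show σ (closedPoint Ω') = s from by
      rw [Scheme.Hom.comp_apply]; exact Scheme.fromSpecResidueField_apply _ _]

end Groth.Agent.H58Jac
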