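import Groth.Agent.H58AE.Peel
import Groth.Agent.Lib.Curves.UniformVeryAmple
import Groth.Agent.Lib.SmoothCurve.Curve
import Groth.Agent.Lib.Modules.Support
import Groth.Agent.Lib.Cyc.Gys.Class
import Groth.Agent.Lib.GrpQ.MonoClosed
import Groth.Agent.Lib.Curves.GenusZero

/-!
# Effective classes on a smooth curve
-/

set_option autoImplicit false
set_option linter.style.haveILetI false
set_option backward.isDefEq.respectTransparency false
set_option backward.isDefEq.respectTransparency.types false
universe u

open CategoryTheory CategoryTheory.Limits AlgebraicGeometry TopologicalSpace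

noncomputable section

namespace Groth.Agent.H58Jac

open Groth.Agent Groth.Agent.Lib Groth.Agent.Lib.Curves Groth.Agent.Lib.TensorMod

local instance instLawEff (Y : Scheme.{u}) : PicGrp.Law Y := Groth.Agent.Lib.TensorMod.Invertible.law Y

variable {k : Type u} [Field k] [IsAlgClosed k] {X : Scheme.{u}} [X.Over (Spec (CommRingCat.of k))]
  [IsProper (X ↘ Spec (CommRingCat.of k))] [Smooth (X ↘ Spec (CommRingCat.of k))] [IsIntegral X]
  (hdim : topologicalKrullDim X = 1)

/-- The class has a nonzero section. -/
def Eff (c : PicLoc.PicSet X) : Prop :=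
  ∃ (M : X.Modules) (hM : PicF.IsInvertible M), PicGrp.cls M hM = c ∧ Nontrivial (Coh.HH X M 0)

include hdim in
theorem not_mem_ptI {x : X} (hx : IsClosed ({x} : Set X)) :
    genericPoint X ∉ ((PointIdeal.ptI hx).support : Set X) := by
  rw [PointIdeal.support_ptI]
  intro hg
  have hu : ({x} : Set X) = Set.univ := Set.eq_univ_of_univ_subset ((genericPoint_spec X).ge.trans
    (closure_minimal (Set.singleton_subset_iff.2 hg) hx))
  haveI : Subsingleton X := ⟨fun a b => (Set.mem_singleton_iff.1 (hu.ge (Set.mem_univ a))).trans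
    (Set.mem_singleton_iff.1 (hu.ge (Set.mem_univ b))).symm⟩
  have h0 := topologicalKrullDim_zero_of_discreteTopology X
  rw [hdim] at h0
  exact one_ne_zero (le_antisymm h0 zero_le_one)

include k in
/-- Dividing by a point keeps effectivity. -/
theorem Eff.mul_inv_point (hd : topologicalKrullDim X ≤ 1) {c : PicLoc.PicSet X} (h : Eff c)
    {x : X} {hx : IsClosed ({x} : Set X)} (hI : PicF.IsInvertible (ClSub.idealMod (PointIdeal.ptI hx))) :
    Eff (c * (PicGrp.cls _ hI)⁻¹) := by
  haveI := GlobalSections.noetherianSpace_of_proper k X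
  obtain ⟨M, hM, rfl, hn⟩ := h
  obtain ⟨N, hN, hNc⟩ := PicGrp.exists_eq_cls (PicGrp.cls M hM * (PicGrp.cls _ hI)⁻¹)
  refine ⟨N, hN, hNc.symm, ?_⟩
  have e : PicGrp.cls (CohB1.tensorMod (ClSub.idealMod (PointIdeal.ptI hx)) N)
      (Invertible.isInvertible_tensorMod hI hN) = PicGrp.cls M hM := by
    rw [show PicGrp.cls _ (Invertible.isInvertible_tensorMod hI hN) = PicGrp.cls _ hI * PicGrp.cls N hN from
      Subtype.ext (PicGrp.cls_mul_cls_val hI hN).symm, ← hNc, mul_comm (PicGrp.cls _ hI), inv_mul_cancel_right]
  obtain ⟨i⟩ := (PicGrp.cls_eq_cls_iff _ _).1 e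
  haveI := (Degree.isGood (k := k) hd hN).fin₀
  haveI := (Degree.isGood (k := k) hd hM).fin₀
  refine Module.nontrivial_of_finrank_pos (R := k) ?_
  have h1 := (PointIdeal.hdim_twist_ideal_point (k := k) hx hd hN).1
  rw [Euler.hdim_eq_of_iso (k := k) i 0] at h1
  haveI := hn
  have h2 : 0 < Euler.hdim k X M 0 := Module.finrank_pos
  exact lt_of_lt_of_le h2 h1

include hdim k in
/-- Off a finite set, a given nonzero section does not vanish. -/
theorem exists_finite_zeros {M : X.Modules} (hM : PicF.IsInvertible M)
    (hn : Nontrivial (Coh.HH X M 0)) :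
    ∃ F : Set X, F.Finite ∧ IsClosed F ∧ genericPoint X ∉ F ∧ ∀ (x : X) (hx : IsClosed ({x} : Set X)), x ∉ F →
      Euler.hdim k X (CohB1.tensorMod (ClSub.idealMod (PointIdeal.ptI hx)) M) 0 < Euler.hdim k X M 0 := by
  haveI := GlobalSections.noetherianSpace_of_proper k X
  have hO := PicLoc.isInvertible_structureModule X
  obtain ⟨s, hs⟩ := Positivity.exists_section_of_nontrivial hn
  have hQ : Coh.IsCoh (cokernel s) :=
    CohBasics.Closure.isCoh_cokernel s (Degree.isCoh_of_isInvertible hO).1 (Degree.isCoh_of_isInvertible hM)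
  haveI := hQ.2
  have hFc := Modules.Support.isClosed_support (cokernel s)
  have hη : genericPoint X ∉ CohB1.support (cokernel s) := by
    refine Modules.Support.not_mem_support_iff.mpr (Positivity.isTorsion_cokernel hO hM hs _ ?_)
    show closure ({genericPoint X} : Set X) ∈ irreducibleComponents X
    rw [(genericPoint_spec X).def, irreducibleComponents_eq_singleton]
    rfl
  refine ⟨CohB1.support (cokernel s), SmoothCurve.Curve.finite_of_isClosed
    hdim hFc hη, hFc, hη, fun x hx hxF => ?_⟩
  refine lt_of_le_of_ne (PointIdeal.hdim_twist_ideal_point (k := k) hx hdim.le hM).1 fun heq => ?_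
  have hall := (PointIdeal.hdim_eq_iff (k := k) hx hdim.le hM).1 heq
  have hz : s ≫ PointIdeal.evQ hx M = 0 := Modules.Free.unitHom_ext (by
    rw [Scheme.Modules.Hom.comp_app]; exact hall _)
  haveI := PointIdeal.epi_evQ hx hM
  haveI : Epi (cokernel.desc s (PointIdeal.evQ hx M) hz) :=
    epi_of_epi_fac (cokernel.π_desc s (PointIdeal.evQ hx M) hz)
  have hsurj := (Modules.StalkModule.epi_iff_stalkMapₗ_surjective
    (cokernel.desc s (PointIdeal.evQ hx M) hz)).1 inferInstance x
  haveI := Modules.Support.not_mem_support_iff.mp hxF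
  have hx' : x ∈ CohB1.support (CohB1.tensorMod (ClSub.quotMod (PointIdeal.ptI hx)) M) := by
    rw [PointIdeal.support_twist_quot hx hM]; rfl
  exact Modules.Support.not_mem_support_iff.mpr hsurj.subsingleton hx'

include hdim in
/-- An invertible module of degree the genus with a single section. -/
theorem exists_single (h0 : Module.finrank k (Coh.HH X (Coh.structureModule X) 0) = 1) :
    ∃ (M : X.Modules) (_ : PicF.IsInvertible M),
      Curv2.deg k X M 1 = Curv2.genus k X ∧ Euler.hdim k X M 0 = 1 := by
  haveI := GlobalSections.noetherianSpace_of_proper k X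
  have hd := hdim.le
  let g : ℕ := Curv2.genus k X
  let Good : X.Modules → Prop := fun M =>
    (Euler.hdim k X M 0 : ℤ) = Curv2.deg k X M 1 + 1 - g
  have hrr : ∀ (M : X.Modules), PicF.IsInvertible M →
      Curv2.deg k X M 1 + 1 - g ≤ (Euler.hdim k X M 0 : ℤ) := fun M hM => by
    have := Degree.riemann_roch (k := k) hd h0 hM
    simp only [Euler.hdim] at this ⊢
    omega
  have hpt : ∀ {x : X} (hx : IsClosed ({x} : Set X)) (hI : PicF.IsInvertible (ClSub.idealMod (PointIdeal.ptI hx))),
      Curv2.deg k X (ClSub.idealMod (PointIdeal.ptI hx)) 1 = -1 := fun {x} hx hI => by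
    rw [Degree.deg_idealMod hd hI (not_mem_ptI hdim hx), PointIdeal.hdim_quot_point_algClosed hx hd]
    rfl
  haveI : IsLocallyNoetherian X := LocallyOfFiniteType.isLocallyNoetherian (X ↘ Spec (CommRingCat.of k))
  have hIinv : ∀ {x : X} (hx : IsClosed ({x} : Set X)),
      PicF.IsInvertible (ClSub.idealMod (PointIdeal.ptI hx)) := fun {x} hx => by
    haveI := SmoothCurve.Stalk.isDiscreteValuationRing_stalk (X ↘ Spec (CommRingCat.of k)) hd hx
      (SmoothCurve.Stalk.ne_genericPoint_of_isClosed (by rw [hdim]; exact one_ne_zero) hx)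
    exact GenusZero.isInvertible_ptI hdim hx inferInstance
  obtain ⟨L, hL, -, hL1, -⟩ := UniformVeryAmple.exists_veryAmple k hdim g rfl
  have hgL : Good L := by
    have hR := Degree.riemann_roch (k := k) hd h0 hL
    haveI := hL1
    have h1 : Euler.hdim k X L 1 = 0 := Module.finrank_zero_of_subsingleton
    show (Euler.hdim k X L 0 : ℤ) = _
    rw [h1] at hR
    omega
  have hmove : ∀ (j : ℕ) (M : X.Modules), PicF.IsInvertible M → Good M →
      (Curv2.deg k X M 1 - g).natAbs = j →
      ∃ (N : X.Modules) (_ : PicF.IsInvertible N), Good N ∧ Curv2.deg k X N 1 = g := by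
    intro j
    induction j with
    | zero => intro M hM hgM hj; exact ⟨M, hM, hgM, by omega⟩
    | succ j ih =>
      intro M hM hgM hj
      rcases lt_trichotomy (Curv2.deg k X M 1) g with hlt | he | hgt
      · -- add a point
        obtain ⟨x, -, hx⟩ := IsClosed.exists_closed_singleton (S := (Set.univ : Set X)) isClosed_univ
          Set.univ_nonempty
        obtain ⟨J, hJ, ⟨eJ⟩⟩ := Invertible.exists_inverse (hIinv hx)
        have hM' := Invertible.isInvertible_tensorMod hJ hM
        have i : CohB1.tensorMod (ClSub.idealMod (PointIdeal.ptI hx)) (CohB1.tensorMod J M) ≅ M :=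
          (Basic.assoc _ _ _).symm ≪≫ Basic.tensorIso eJ (Iso.refl M) ≪≫ Basic.leftUnit M
        have hd' : Curv2.deg k X (CohB1.tensorMod J M) 1 = Curv2.deg k X M 1 + 1 := by
          have := Degree.deg_tensor (k := k) hd (hIinv hx) hM'
          rw [Euler.deg_eq_of_iso i 1, hpt hx (hIinv hx)] at this
          omega
        refine ih _ hM' ?_ (by omega)
        have h2 := (PointIdeal.hdim_twist_ideal_point (k := k) hx hd hM').2
        rw [Euler.hdim_eq_of_iso (k := k) i 0, PointIdeal.hdim_quot_point_algClosed hx hd] at h2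
        have h3 := hrr _ hM'
        show (Euler.hdim k X _ 0 : ℤ) = _
        simp only [Good] at hgM
        omega
      · omega
      · -- remove a point
        simp only [Good] at hgM
        haveI := (Degree.isGood (k := k) hd hM).fin₀
        have hn : Nontrivial (Coh.HH X M 0) := Module.nontrivial_of_finrank_pos (R := k) (by
          simp only [Euler.hdim] at hgM; omega)
        obtain ⟨F, -, hFc, hηF, hF'⟩ := exists_finite_zeros (k := k) hdim hM hn
        have hne : Fᶜ.Nonempty := ⟨_, hηF⟩
        haveI : JacobsonSpace X := LocallyOfFiniteType.jacobsonSpace (X ↘ Spec (CommRingCat.of k))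
        obtain ⟨x, hxF, hx⟩ := nonempty_inter_closedPoints hne hFc.isOpen_compl.isLocallyClosed
        have hM' := Invertible.isInvertible_tensorMod (hIinv hx) hM
        have hd' : Curv2.deg k X (CohB1.tensorMod (ClSub.idealMod (PointIdeal.ptI hx)) M) 1 =
            Curv2.deg k X M 1 - 1 := by
          rw [Degree.deg_tensor hd (hIinv hx) hM, hpt hx (hIinv hx)]; ring
        refine ih _ hM' ?_ (by omega)
        have h2 := hF' x hx hxF
        have h3 := hrr _ hM'
        show (Euler.hdim k X _ 0 : ℤ) = _
        omega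
  obtain ⟨M, hM, hgM, hdM⟩ := hmove _ L hL hgL rfl
  refine ⟨M, hM, hdM, ?_⟩
  simp only [Good] at hgM
  omega

end Groth.Agent.H58Jac
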