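import Groth.Agent.H58AE.Main
import Groth.Agent.H34.PicDegree
import Groth.Agent.H34.Elliptic.Unique
import Groth.Agent.H2.Rigid.GeomIrred
import Groth.Agent.Lib.CurveBundle.SmoothField
import Groth.Prelude.Def_AbDual

/-!
# Degrees at the geometric points of a family of smooth curves
-/

set_option autoImplicit false
set_option linter.style.haveILetI false
set_option backward.isDefEq.respectTransparency false
set_option backward.isDefEq.respectTransparency.types false
universe u

open CategoryTheory CategoryTheory.Limits AlgebraicGeometry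
open IsLocalRing (closedPoint)

noncomputable section

namespace Groth.Agent.H58Jac

open Groth.Agent Groth.Agent.Lib

variable {C S : Scheme.{u}} (f : C ⟶ S)

/-- A geometric point at a point. -/
theorem exists_geom (Y : Scheme.{u}) (y : Y) :
    ∃ (Ω : Type u) (_ : Field Ω) (_ : IsAlgClosed Ω) (σ : Spec (CommRingCat.of Ω) ⟶ Y),
      ∀ z, σ z = y :=
  ⟨AlgebraicClosure (Y.residueField y), inferInstance, inferInstance,
    Spec.map (CommRingCat.ofHom (algebraMap (Y.residueField y) _)) ≫ Y.fromSpecResidueField y,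
    fun z => by rw [Scheme.Hom.comp_apply]; exact Scheme.fromSpecResidueField_apply _ _⟩

variable {Ω : Type u} [Field Ω] {Z : Scheme.{u}} {T : Over S}
  {q : Z ⟶ Spec (CommRingCat.of Ω)} {σ : Spec (CommRingCat.of Ω) ⟶ T.left} {g' : Z ⟶ PicF.XT f T}

variable [IsProper f] [Smooth f] [GeometricallyConnected f]
  (hdim : ∀ s : S, topologicalKrullDim ↥(f.fiber s) = 1)

/-- The data of the fibre at a geometric point. -/
structure IsCurve (q : Z ⟶ Spec (CommRingCat.of Ω)) : Prop where
  proper : IsProper q
  smooth : Smooth q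
  conn : GeometricallyConnected q
  integral : IsIntegral Z
  dim : topologicalKrullDim Z = 1
  dimf : ∀ s, topologicalKrullDim ↥(q.fiber s) = 1

include hdim in
theorem isCurve (sq : IsPullback g' q (PicF.XTproj f T) σ) : IsCurve q := by
  have sq2 := sq.paste_horiz (IsPullback.of_hasPullback f T.hom)
  have hp : IsProper q := MorphismProperty.of_isPullback (P := @IsProper) sq2 inferInstance
  have hs : Smooth q := MorphismProperty.of_isPullback (P := @Smooth) sq2 inferInstance
  have hc : GeometricallyConnected q :=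
    MorphismProperty.of_isPullback (P := @GeometricallyConnected) sq2 inferInstance
  have hdf : ∀ s, topologicalKrullDim ↥(q.fiber s) = 1 := fun s =>
    (H34.AbelMono.dim_fiber_baseChange f sq2 s).trans (hdim _)
  have hd : topologicalKrullDim Z = 1 := by
    have hu : q ⁻¹' {closedPoint Ω} = (Set.univ : Set Z) :=
      Set.eq_univ_of_forall fun x => Subsingleton.elim (α := PrimeSpectrum Ω) _ _
    rw [← (((q.fiberHomeo (closedPoint Ω)).trans (Homeomorph.setCongr hu)).trans
      (Homeomorph.Set.univ Z)).isHomeomorph.topologicalKrullDim_eq]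
    exact hdf _
  haveI := hp; haveI := hs; haveI := hc
  letI : Z.Over (Spec (CommRingCat.of Ω)) := ⟨q⟩
  haveI : IsProper (Z ↘ Spec (CommRingCat.of Ω)) := hp
  haveI : Smooth (Z ↘ Spec (CommRingCat.of Ω)) := hs
  haveI : Nonempty (Spec (CommRingCat.of Ω)) := inferInstanceAs (Nonempty (PrimeSpectrum Ω))
  haveI : Subsingleton (Spec (CommRingCat.of Ω)) := inferInstanceAs (Subsingleton (PrimeSpectrum Ω))
  haveI : ConnectedSpace Z := GeometricallyConnected.connectedSpace_of_subsingleton q
  haveI := Curves.GlobalSections.noetherianSpace_of_proper Ω Z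
  exact ⟨hp, hs, hc, CurveBundle.SmoothField.isIntegral Ω hd.le, hd, hdf⟩

include hdim in
/-- The cohomology at a geometric point computes the fibre ranks. -/
theorem finrank_HH (sq : IsPullback g' q (PicF.XTproj f T) σ) {L : (PicF.XT f T).Modules}
    (hL : PicF.IsInvertible L) (j : ℕ) :
    letI : Z.Over (Spec (CommRingCat.of Ω)) := ⟨q⟩
    Module.finrank Ω (Coh.HH Z ((Scheme.Modules.pullback g').obj L) j) =
      CohIII.fiberRank (PicF.XTproj f T) L j (σ (closedPoint Ω)) := by
  have hL' := TensorMod.LocFree.of_rank (TensorMod.LocFree.of_isInvertible hL)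
  haveI : L.IsQuasicoherent := TensorMod.QCohInv.isQCoh_of_isInvertible hL
  exact ExchangeFP29.FieldPoint.finrank_HH_eq (PicF.XTproj f T) L
    (TensorMod.FPConv.isFP_of_isFinLocFree hL')
    (_root_.ZarCoh.Exchange.NearFibre.isFlatOver_of_isFinLocFree _ hL') q σ g' sq j

include hdim in
/-- The degree at a geometric point is the fibre degree. -/
theorem curveDeg_eq (sq : IsPullback g' q (PicF.XTproj f T) σ) {L : (PicF.XT f T).Modules}
    (hL : PicF.IsInvertible L) :
    Pic13.curveDeg Ω q ((Scheme.Modules.pullback g').obj L) =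
      H34.PicDegree.D f T L (σ (closedPoint Ω)) := by
  letI : Z.Over (Spec (CommRingCat.of Ω)) := ⟨q⟩
  have hO := PicLoc.isInvertible_structureModule (PicF.XT f T)
  unfold Pic13.curveDeg FGA.eulerCharLE H34.PicDegree.D
  simp only [Finset.sum_range_succ, Finset.sum_range_zero, pow_zero, pow_one, one_mul, neg_one_mul,
    zero_add, ← sub_eq_add_neg]
  rw [← finrank_HH f hdim sq hL 0, ← finrank_HH f hdim sq hL 1, ← finrank_HH f hdim sq hO 0,
    ← finrank_HH f hdim sq hO 1]
  have e2 : ∀ j, (Curves.Euler.hdim Ω Z (Coh.structureModule Z) j) =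
      Curves.Euler.hdim Ω Z ((Scheme.Modules.pullback g').obj (Coh.structureModule _)) j :=
    fun j => Curves.Euler.hdim_eq_of_iso (PicLoc.pullbackStructureIso _).symm j
  simp only [Curves.Euler.hdim] at e2
  rw [← e2, ← e2]

/-- The two degrees of a module on a curve agree. -/
theorem deg_eq_curveDeg [Z.Over (Spec (CommRingCat.of Ω))] [IsProper (Z ↘ Spec (CommRingCat.of Ω))]
    (hd : topologicalKrullDim Z ≤ 1) (L : Z.Modules) :
    Curv2.deg Ω Z L 1 = Pic13.curveDeg Ω (Z ↘ Spec (CommRingCat.of Ω)) L := by
  haveI := Curves.GlobalSections.noetherianSpace_of_proper Ω Z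
  rw [Curves.Degree.deg_eq, Curves.Euler.euler_eq (Curves.Positivity.subsingleton_HH_of_two_le hd L),
    Curves.Euler.euler_eq (Curves.Positivity.subsingleton_HH_of_two_le hd _)]
  simp only [Pic13.curveDeg, FGA.eulerCharLE, Finset.sum_range_succ, Finset.sum_range_zero,
    pow_zero, pow_one, one_mul, neg_one_mul, zero_add, ← sub_eq_add_neg]

include hdim in
/-- A class is algebraically equivalent to zero on all geometric fibres iff all degrees vanish. -/
theorem isPicZeroCl_iff {L : (PicF.XT f T).Modules} (hL : PicF.IsInvertible L) :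
    AbDual.IsPicZeroCl f T (PicF.cl L) ↔ ∀ t, H34.PicDegree.D f T L t = 0 := by
  constructor
  · rintro ⟨L', hcl, hL', halg⟩ t
    obtain ⟨e⟩ := (PicGrp.cl_eq_cl_iff _ _).1 hcl
    rw [← H34.PicDegree.D_congr f e t]
    obtain ⟨Ω, _, _, σ, hσ⟩ := exists_geom T.left t
    have hr : Set.range σ.base = {t} := by
      ext w
      exact ⟨fun ⟨z, hz⟩ => hz ▸ hσ z, fun hw => ⟨closedPoint Ω, (hσ _).trans hw.symm⟩⟩
    have sq := IsPullback.of_hasPullback (PicF.XTproj f T) σ
    have hC := isCurve f hdim sq
    letI : (pullback (PicF.XTproj f T) σ).Over (Spec (CommRingCat.of Ω)) := ⟨pullback.snd _ _⟩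
    haveI : IsProper (pullback (PicF.XTproj f T) σ ↘ Spec (CommRingCat.of Ω)) := hC.proper
    haveI : Smooth (pullback (PicF.XTproj f T) σ ↘ Spec (CommRingCat.of Ω)) := hC.smooth
    rw [← hσ (closedPoint Ω), ← curveDeg_eq f hdim sq hL']
    exact H58AE.deg_eq_zero_of_isAlgEquivZero _ hC.dimf (halg t Ω σ hr)
  · intro hD
    refine ⟨L, rfl, hL, fun t Ω _ _ σ hr => ?_⟩
    have hσ : σ (closedPoint Ω) = t := hr.subset ⟨_, rfl⟩
    have sq := IsPullback.of_hasPullback (PicF.XTproj f T) σ
    have hC := isCurve f hdim sq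
    letI : (pullback (PicF.XTproj f T) σ).Over (Spec (CommRingCat.of Ω)) := ⟨pullback.snd _ _⟩
    haveI : IsProper (pullback (PicF.XTproj f T) σ ↘ Spec (CommRingCat.of Ω)) := hC.proper
    haveI : Smooth (pullback (PicF.XTproj f T) σ ↘ Spec (CommRingCat.of Ω)) := hC.smooth
    haveI : GeometricallyConnected (pullback (PicF.XTproj f T) σ ↘ Spec (CommRingCat.of Ω)) := hC.conn
    haveI := hC.integral
    refine H58AE.isAlgEquivZero_of_deg_eq_zero _ hC.dimf hC.dim (PicLoc.isInvertible_pullback _ hL) ?_
    rw [deg_eq_curveDeg hC.dim.le]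
    exact (curveDeg_eq f hdim sq hL).trans (hσ ▸ hD t)

include hdim in
/-- The genus of the fibre is locally constant. -/
theorem isLocallyConstant_genus :
    IsLocallyConstant fun s : S => CohIII.fiberRank f (Coh.structureModule C) 1 s := by
  have hO' := TensorMod.LocFree.of_rank (TensorMod.LocFree.of_isInvertible
    (PicLoc.isInvertible_structureModule C))
  haveI : (Coh.structureModule C).IsQuasicoherent :=
    TensorMod.QCohInv.isQCoh_of_isInvertible (PicLoc.isInvertible_structureModule C)
  have h := ExchangeFP29.Main.isLocallyConstant_eulerChar f (Coh.structureModule C)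
    (TensorMod.FPConv.isFP_of_isFinLocFree hO')
    (_root_.ZarCoh.Exchange.NearFibre.isFlatOver_of_isFinLocFree _ hO')
  have he : ∀ s, PerfAux.eulerChar f (Coh.structureModule C) s =
      1 - (CohIII.fiberRank f (Coh.structureModule C) 1 s : ℤ) := by
    intro s
    have hd : topologicalKrullDim ↥(f.fiber s) ≤ ((1 : ℕ) : WithBot ℕ∞) := by rw [hdim]; exact le_rfl
    have h0 := H34.Elliptic.Point.fiberRank_zero_structure (f := f) inferInstance inferInstance
      inferInstance hdim s
    unfold PerfAux.eulerChar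
    rw [finsum_eq_sum_of_support_subset _ (s := Finset.range 2)]
    · rw [Finset.sum_range_succ, Finset.sum_range_one, pow_zero, pow_one, one_mul, neg_one_mul,
        ← sub_eq_add_neg, ExchangeFP29.Main.betti_eq, ExchangeFP29.Main.betti_eq, h0]
      rfl
    · intro p hp
      simp only [Finset.coe_range, Set.mem_Iio]
      by_contra hp2
      apply hp
      haveI := H54.BCX.Main.subsingleton_fiberH (f := f) (F := Coh.structureModule C) s hd
        (i := p) (by omega)
      show (-1 : ℤ) ^ p * _ = 0
      rw [ExchangeFP29.Main.betti_eq, (ExchangeFP29.Main.fiberRank_eq_zero_iff f (Coh.structureModule C)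
        (TensorMod.FPConv.isFP_of_isFinLocFree hO') s p).2 inferInstance]
      simp
  have h' := h.comp fun z : ℤ => (1 - z).toNat
  convert h' using 1
  funext s
  simp [he]

end Groth.Agent.H58Jac
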