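import Groth.Agent.H58Jac.Fibre
import Groth.Prelude.Def_AbDual
import Mathlib.AlgebraicGeometry.Sites.Fpqc

/-!
# `Pic⁰` is open and closed in `Pic`
-/

set_option autoImplicit false
set_option linter.style.haveILetI false
set_option backward.isDefEq.respectTransparency false
set_option backward.isDefEq.respectTransparency.types false
universe u

open CategoryTheory CategoryTheory.Limits AlgebraicGeometry

noncomputable section

namespace Groth.Agent.H58Jac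

open Groth.Agent Groth.Agent.Lib

/-- Morphisms agreeing on an fppf cover agree. -/
theorem hom_ext_fppf {Z Y : Scheme.{u}} {R : Presieve Y} (hR : R ∈ Scheme.fppfPrecoverage Y)
    (m m' : Y ⟶ Z) (h : ∀ ⦃U : Scheme.{u}⦄ (u : U ⟶ Y), R u → u ≫ m = u ≫ m') : m = m' :=
  ((GrothendieckTopology.Subcanonical.isSheaf_of_isRepresentable (J := Scheme.fppfTopology)
    (yoneda.obj Z)).isSheafFor R (Precoverage.generate_mem_toGrothendieck hR)).isSeparatedFor.ext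
    fun U u hu => h u hu

/-- Compatible morphisms on an fppf cover glue. -/
theorem exists_glue_fppf {Z Y : Scheme.{u}} {R : Presieve Y} (hR : R ∈ Scheme.fppfPrecoverage Y)
    (m : ∀ ⦃U : Scheme.{u}⦄ (u : U ⟶ Y), R u → (U ⟶ Z))
    (h : ∀ ⦃U₁ U₂ W : Scheme.{u}⦄ (g₁ : W ⟶ U₁) (g₂ : W ⟶ U₂) (u₁ : U₁ ⟶ Y) (u₂ : U₂ ⟶ Y)
      (h₁ : R u₁) (h₂ : R u₂), g₁ ≫ u₁ = g₂ ≫ u₂ → g₁ ≫ m u₁ h₁ = g₂ ≫ m u₂ h₂) :
    ∃ n : Y ⟶ Z, ∀ ⦃U : Scheme.{u}⦄ (u : U ⟶ Y) (hu : R u), u ≫ n = m u hu := by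
  obtain ⟨n, hn, -⟩ := (GrothendieckTopology.Subcanonical.isSheaf_of_isRepresentable
    (J := Scheme.fppfTopology) (yoneda.obj Z)).isSheafFor R (Precoverage.generate_mem_toGrothendieck hR)
    (fun U u hu => m u hu) fun U₁ U₂ W g₁ g₂ u₁ u₂ h₁ h₂ hg => h g₁ g₂ u₁ u₂ h₁ h₂ hg
  exact ⟨n, fun U u hu => hn u hu⟩

variable {C S : Scheme.{u}} (f : C ⟶ S) [IsProper f] [Smooth f] [GeometricallyConnected f]
  (hdim : ∀ s : S, topologicalKrullDim ↥(f.fiber s) = 1)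

theorem isInvertibleCl_of_isPicZeroCl {T : Over S} {c : PicF.Cl (PicF.XT f T)}
    (h : AbDual.IsPicZeroCl f T c) : PicF.IsInvertibleCl c := by
  obtain ⟨L, hc, hL, -⟩ := h
  exact ⟨L, hc, hL⟩

include hdim in
theorem isPicZeroCl_pullCl {T T' : Over S} (g : T' ⟶ T) {c : PicF.Cl (PicF.XT f T)}
    (h : AbDual.IsPicZeroCl f T c) : AbDual.IsPicZeroCl f T' (PicF.pullCl (PicF.XTmap f g) c) := by
  obtain ⟨L, rfl, hL⟩ := isInvertibleCl_of_isPicZeroCl f h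
  exact (isPicZeroCl_iff f hdim (PicLoc.isInvertible_pullback _ hL)).2 fun t =>
    (H34.PicDegree.D_pull f g L hL t).trans ((isPicZeroCl_iff f hdim hL).1 h _)

variable (P : Over S) (φ : ∀ T : Over S, PicF.Cl (PicF.XT f T) → (T ⟶ P))
  (hP : AbDual.IsRelPicK Scheme.fppfPrecoverage f P φ)
  (P₀ : Over S) (φ₀ : ∀ T : Over S, PicF.Cl (PicF.XT f T) → (T ⟶ P₀))
  (hP₀ : AbDual.IsRelPicZeroK Scheme.fppfPrecoverage f P₀ φ₀)
  (j : P₀ ⟶ P)
  (hj : ∀ (T : Over S) (c : PicF.Cl (PicF.XT f T)), AbDual.IsPicZeroCl f T c → φ₀ T c ≫ j = φ T c)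

include hP hP₀ hj hdim in
theorem eq_of_comp_eq {T : Over S} (x y : T ⟶ P₀) (h : x ≫ j = y ≫ j) : x = y := by
  obtain ⟨R₁, hR₁, hl₁⟩ := hP₀.locallySurjective T x
  refine Over.OverMorphism.ext (hom_ext_fppf hR₁ _ _ fun U u hu => ?_)
  obtain ⟨c₁, hc₁, hφ₁⟩ := hl₁ u hu
  obtain ⟨R₂, hR₂, hl₂⟩ := hP₀.locallySurjective (AbDual.ovr T u) (AbDual.ovrHom T u ≫ y)
  refine hom_ext_fppf hR₂ _ _ fun V v hv => ?_
  obtain ⟨c₂, hc₂, hφ₂⟩ := hl₂ v hv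
  have hc₁' := isPicZeroCl_pullCl f hdim (AbDual.ovrHom (AbDual.ovr T u) v) hc₁
  have hx : φ₀ _ (PicF.pullCl (PicF.XTmap f (AbDual.ovrHom (AbDual.ovr T u) v)) c₁) =
      AbDual.ovrHom (AbDual.ovr T u) v ≫ AbDual.ovrHom T u ≫ x := by
    rw [hP₀.natural _ _ _ _ hc₁, hφ₁]
  have heq : φ _ (PicF.pullCl (PicF.XTmap f (AbDual.ovrHom (AbDual.ovr T u) v)) c₁) = φ _ c₂ := by
    rw [← hj _ _ hc₁', ← hj _ _ hc₂, hx, hφ₂]
    simp only [Category.assoc, h]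
  obtain ⟨R₃, hR₃, hl₃⟩ := hP.locallyInjective _ _ _ (isInvertibleCl_of_isPicZeroCl f hc₁')
    (isInvertibleCl_of_isPicZeroCl f hc₂) heq
  refine hom_ext_fppf hR₃ _ _ fun W w hw => ?_
  have h1 := congrArg (φ₀ _) (hl₃ w hw)
  rw [hP₀.natural _ _ _ _ hc₁', hP₀.natural _ _ _ _ hc₂, hx, hφ₂] at h1
  exact congrArg CommaMorphism.left h1

include hP hP₀ hj hdim in
/-- `Pic⁰` is the open and closed locus of degree zero. -/
theorem isOpenImmersion_and_isClosedImmersion :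
    IsOpenImmersion j.left ∧ IsClosedImmersion j.left := by
  obtain ⟨d, hd, hdD⟩ := H34.PicDegree.exists_degree f hdim P φ hP
  let O : P.left.Opens := ⟨{p | d p = 0}, hd {(0 : ℤ)}⟩
  have hclosed : IsClosed {p | d p = 0} :=
    isOpen_compl_iff.1 (hd {z : ℤ | z ≠ 0})
  -- `j` lands in the locus
  have hrange : Set.range j.left ⊆ (O : Set P.left) := by
    rintro _ ⟨p, rfl⟩
    obtain ⟨R, hR, hl⟩ := hP₀.locallySurjective P₀ (𝟙 P₀)
    obtain ⟨V, v, hv, ⟨z, hz⟩, -, -⟩ := H34.PicDegree.exists_mem_cover hR p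
    obtain ⟨c, hc, hφ⟩ := hl v hv
    obtain ⟨L, rfl, hL⟩ := isInvertibleCl_of_isPicZeroCl f hc
    have h1 := hdD _ L hL z
    rw [← hj _ _ hc, hφ, (isPicZeroCl_iff f hdim hL).1 hc z, Category.comp_id] at h1
    rw [← hz]
    exact h1
  let U : Over S := Over.mk (O.ι ≫ P.hom)
  let i : U ⟶ P := Over.homMk O.ι rfl
  let j' : P₀.left ⟶ (O : Scheme.{u}) := IsOpenImmersion.lift O.ι j.left (by rw [Scheme.Opens.range_ι]; exact hrange)
  have hj' : j' ≫ O.ι = j.left := IsOpenImmersion.lift_fac _ _ _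
  obtain ⟨R, hR, hl⟩ := hP.locallySurjective U i
  have hpt : ∀ ⦃V : Scheme.{u}⦄ (v : V ⟶ (O : Scheme.{u})), R v →
      ∃ x : AbDual.ovr U v ⟶ P₀, x ≫ j = AbDual.ovrHom U v ≫ i := by
    intro V v hv
    obtain ⟨c, ⟨L, rfl, hL⟩, hφ⟩ := hl v hv
    have hz : AbDual.IsPicZeroCl f _ (PicF.cl L) := (isPicZeroCl_iff f hdim hL).2 fun t => by
      rw [← hdD _ L hL t, hφ]
      exact (v t).2
    exact ⟨φ₀ _ (PicF.cl L), (hj _ _ hz).trans hφ⟩
  choose X hX using hpt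
  obtain ⟨n, hn⟩ := exists_glue_fppf hR (fun V v hv => (X v hv).left) fun V₁ V₂ W g₁ g₂ v₁ v₂ h₁ h₂ hg => by
    let T : Over S := Over.mk (g₁ ≫ v₁ ≫ U.hom)
    let k₁ : T ⟶ AbDual.ovr U v₁ := Over.homMk g₁ rfl
    let k₂ : T ⟶ AbDual.ovr U v₂ := Over.homMk g₂ (by
      show g₂ ≫ v₂ ≫ U.hom = g₁ ≫ v₁ ≫ U.hom
      rw [← Category.assoc, ← hg, Category.assoc])
    refine congrArg CommaMorphism.left (eq_of_comp_eq f hdim P φ hP P₀ φ₀ hP₀ j hj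
      (k₁ ≫ X v₁ h₁) (k₂ ≫ X v₂ h₂) ?_)
    rw [Category.assoc, Category.assoc, hX, hX]
    refine Over.OverMorphism.ext ?_
    show g₁ ≫ v₁ ≫ O.ι = g₂ ≫ v₂ ≫ O.ι
    rw [← Category.assoc, hg, Category.assoc]
  have hnj : n ≫ j.left = O.ι := hom_ext_fppf hR _ _ fun V v hv => by
    rw [← Category.assoc, hn v hv]
    exact congrArg CommaMorphism.left (hX v hv)
  have h1 : n ≫ j' = 𝟙 _ := by
    rw [← cancel_mono O.ι, Category.assoc, hj', hnj, Category.id_comp]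
  have h2 : j' ≫ n = 𝟙 _ := by
    let m : P₀ ⟶ P₀ := Over.homMk (j' ≫ n) (by
      show (j' ≫ n) ≫ P₀.hom = P₀.hom
      rw [← Over.w j, Category.assoc, ← Category.assoc n, hnj, ← Category.assoc, hj'])
    refine congrArg CommaMorphism.left (eq_of_comp_eq f hdim P φ hP P₀ φ₀ hP₀ j hj m (𝟙 _) ?_)
    refine Over.OverMorphism.ext ?_
    show (j' ≫ n) ≫ j.left = 𝟙 _ ≫ j.left
    rw [Category.assoc, hnj, hj', Category.id_comp]
  haveI : IsIso j' := ⟨n, h2, h1⟩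
  haveI : IsOpenImmersion j.left := hj' ▸ inferInstance
  refine ⟨inferInstance, IsClosedImmersion.of_isPreimmersion _ ?_⟩
  have hr : Set.range j.left = {p | d p = 0} := by
    refine Set.Subset.antisymm hrange fun p hp => ⟨n ⟨p, hp⟩, ?_⟩
    rw [← Scheme.Hom.comp_apply, hnj]; rfl
  rw [hr]; exact hclosed

end Groth.Agent.H58Jac
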